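import Cfsg.Agent.H981.Pw.HNCert

/-!
# Certificates for 3-elements of the Harada-Norton group, part A (helper981, S2465; generated)
-/

set_option autoImplicit false
set_option maxRecDepth 100000

namespace Cfsg.Agent.H981.Pw.HN3.A

open Cfsg.Agent.Lib.PackMat Cfsg.Agent.Lib.PackMatGroup Cfsg.Agent.Lib.PackMatMul Cfsg.Agent.HN.RepData
open Cfsg.Agent.HN.Rep (L LG gens rho)
open Cfsg.Agent.HN Cfsg.Agent.H285.HN3 Cfsg.Agent.H839.Rad.Ext
open Cfsg.Agent.H78.Pw (Pr)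

def pg : List (ℕ × List ℕ) := [
  (20, [21]), (10, [10]), (9, [9]), (0, [11, 1, 10]), (8, [8]), (11, [11]), (1, [11, 0, 10]), (8, [8]), (11, [11]),
  (1, [11, 0, 10]), (6, [3, 0]), (7, [7, 4]), (14, [16, 21]), (0, [0]), (0, [0]), (0, [2]), (1, [5]), (0, [0]),
  (0, [0]), (0, [0]), (0, [2, 3]), (25, [29, 26]), (0, [0]), (0, [0]), (0, [2]), (1, [13]), (0, [0]), (0, [0]),
  (0, [1, 2]), (34, [29, 37]), (0, [0]), (0, [0]), (0, [2]), (1, [33]), (0, [0]), (0, [0]), (0, [2]),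
  (46, [45, 45, 41]), (0, [0]), (0, [0]), (0, [2]), (1, [29, 41]), (0, [0]), (0, [0]), (0, [1, 2])]

def es2 : List (ℕ × ℕ) := [
  (29, 44), (24, 44), (20, 44), (16, 44), (12, 44), (8, 44), (4, 44), (0, 44)]

theorem chk2 : checkS C pg es2 [] Cfsg.Agent.HN.A12Step.L20 = true := by decide +kernel

noncomputable def T (i : ℕ) : Cfsg.Spor.HN := TT pg i

theorem eqT {i j : ℕ} (h : (i, j) ∈ es2) : T i = T j := eqTT chk2 (by decide) h

theorem stepT {i : ℕ} {w : List ℕ} (hi : i < pg.length)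
    (hw : ((pg.reverse.getD i (0, [])).1 :: (pg.reverse.getD i (0, [])).2) = w) :
    T i = evF (fun m => T (i + 1 + m)) w := stepTT hi hw

theorem let_ (m : ℕ) : T (45 + m) = R (85 + m) := letTT pg m

theorem t44 : T 44 = T 65 * (T 66 * 1) :=
  stepT (i := 44) (w := [20, 21]) (by decide) (by rfl)
theorem t43 : T 43 = T 54 * (T 54 * 1) :=
  stepT (i := 43) (w := [10, 10]) (by decide) (by rfl)
theorem t42 : T 42 = T 52 * (T 52 * 1) :=
  stepT (i := 42) (w := [9, 9]) (by decide) (by rfl)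
theorem t41 : T 41 = T 42 * (T 53 * (T 43 * (T 52 * 1))) :=
  stepT (i := 41) (w := [0, 11, 1, 10]) (by decide) (by rfl)
theorem t40 : T 40 = T 49 * (T 49 * 1) :=
  stepT (i := 40) (w := [8, 8]) (by decide) (by rfl)
theorem t39 : T 39 = T 51 * (T 51 * 1) :=
  stepT (i := 39) (w := [11, 11]) (by decide) (by rfl)
theorem t38 : T 38 = T 40 * (T 50 * (T 39 * (T 49 * 1))) :=
  stepT (i := 38) (w := [1, 11, 0, 10]) (by decide) (by rfl)
theorem t37 : T 37 = T 46 * (T 46 * 1) :=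
  stepT (i := 37) (w := [8, 8]) (by decide) (by rfl)
theorem t36 : T 36 = T 48 * (T 48 * 1) :=
  stepT (i := 36) (w := [11, 11]) (by decide) (by rfl)
theorem t35 : T 35 = T 37 * (T 47 * (T 36 * (T 46 * 1))) :=
  stepT (i := 35) (w := [1, 11, 0, 10]) (by decide) (by rfl)
theorem t34 : T 34 = T 41 * (T 38 * (T 35 * 1)) :=
  stepT (i := 34) (w := [6, 3, 0]) (by decide) (by rfl)
theorem t33 : T 33 = T 41 * (T 41 * (T 38 * 1)) :=
  stepT (i := 33) (w := [7, 7, 4]) (by decide) (by rfl)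
theorem t32 : T 32 = T 47 * (T 49 * (T 54 * 1)) :=
  stepT (i := 32) (w := [14, 16, 21]) (by decide) (by rfl)
theorem t31 : T 31 = T 32 * (T 32 * 1) :=
  stepT (i := 31) (w := [0, 0]) (by decide) (by rfl)
theorem t30 : T 30 = T 31 * (T 31 * 1) :=
  stepT (i := 30) (w := [0, 0]) (by decide) (by rfl)
theorem t29 : T 29 = T 30 * (T 32 * 1) :=
  stepT (i := 29) (w := [0, 2]) (by decide) (by rfl)
theorem t28 : T 28 = T 30 * (T 34 * 1) :=
  stepT (i := 28) (w := [1, 5]) (by decide) (by rfl)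
theorem t27 : T 27 = T 28 * (T 28 * 1) :=
  stepT (i := 27) (w := [0, 0]) (by decide) (by rfl)
theorem t26 : T 26 = T 27 * (T 27 * 1) :=
  stepT (i := 26) (w := [0, 0]) (by decide) (by rfl)
theorem t25 : T 25 = T 26 * (T 26 * 1) :=
  stepT (i := 25) (w := [0, 0]) (by decide) (by rfl)
theorem t24 : T 24 = T 25 * (T 27 * (T 28 * 1)) :=
  stepT (i := 24) (w := [0, 2, 3]) (by decide) (by rfl)
theorem t23 : T 23 = T 49 * (T 53 * (T 50 * 1)) :=
  stepT (i := 23) (w := [25, 29, 26]) (by decide) (by rfl)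
theorem t22 : T 22 = T 23 * (T 23 * 1) :=
  stepT (i := 22) (w := [0, 0]) (by decide) (by rfl)
theorem t21 : T 21 = T 22 * (T 22 * 1) :=
  stepT (i := 21) (w := [0, 0]) (by decide) (by rfl)
theorem t20 : T 20 = T 21 * (T 23 * 1) :=
  stepT (i := 20) (w := [0, 2]) (by decide) (by rfl)
theorem t19 : T 19 = T 21 * (T 33 * 1) :=
  stepT (i := 19) (w := [1, 13]) (by decide) (by rfl)
theorem t18 : T 18 = T 19 * (T 19 * 1) :=
  stepT (i := 18) (w := [0, 0]) (by decide) (by rfl)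
theorem t17 : T 17 = T 18 * (T 18 * 1) :=
  stepT (i := 17) (w := [0, 0]) (by decide) (by rfl)
theorem t16 : T 16 = T 17 * (T 18 * (T 19 * 1)) :=
  stepT (i := 16) (w := [0, 1, 2]) (by decide) (by rfl)
theorem t15 : T 15 = T 50 * (T 45 * (T 53 * 1)) :=
  stepT (i := 15) (w := [34, 29, 37]) (by decide) (by rfl)
theorem t14 : T 14 = T 15 * (T 15 * 1) :=
  stepT (i := 14) (w := [0, 0]) (by decide) (by rfl)
theorem t13 : T 13 = T 14 * (T 14 * 1) :=
  stepT (i := 13) (w := [0, 0]) (by decide) (by rfl)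
theorem t12 : T 12 = T 13 * (T 15 * 1) :=
  stepT (i := 12) (w := [0, 2]) (by decide) (by rfl)
theorem t11 : T 11 = T 13 * (T 45 * 1) :=
  stepT (i := 11) (w := [1, 33]) (by decide) (by rfl)
theorem t10 : T 10 = T 11 * (T 11 * 1) :=
  stepT (i := 10) (w := [0, 0]) (by decide) (by rfl)
theorem t9 : T 9 = T 10 * (T 10 * 1) :=
  stepT (i := 9) (w := [0, 0]) (by decide) (by rfl)
theorem t8 : T 8 = T 9 * (T 11 * 1) :=
  stepT (i := 8) (w := [0, 2]) (by decide) (by rfl)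
theorem t7 : T 7 = T 54 * (T 53 * (T 53 * (T 49 * 1))) :=
  stepT (i := 7) (w := [46, 45, 45, 41]) (by decide) (by rfl)
theorem t6 : T 6 = T 7 * (T 7 * 1) :=
  stepT (i := 6) (w := [0, 0]) (by decide) (by rfl)
theorem t5 : T 5 = T 6 * (T 6 * 1) :=
  stepT (i := 5) (w := [0, 0]) (by decide) (by rfl)
theorem t4 : T 4 = T 5 * (T 7 * 1) :=
  stepT (i := 4) (w := [0, 2]) (by decide) (by rfl)
theorem t3 : T 3 = T 5 * (T 33 * (T 45 * 1)) :=
  stepT (i := 3) (w := [1, 29, 41]) (by decide) (by rfl)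
theorem t2 : T 2 = T 3 * (T 3 * 1) :=
  stepT (i := 2) (w := [0, 0]) (by decide) (by rfl)
theorem t1 : T 1 = T 2 * (T 2 * 1) :=
  stepT (i := 1) (w := [0, 0]) (by decide) (by rfl)
theorem t0 : T 0 = T 1 * (T 2 * (T 3 * 1)) :=
  stepT (i := 0) (w := [0, 1, 2]) (by decide) (by rfl)

theorem l0 : T 45 = R 85 := let_ 0
theorem l1 : T 46 = R 86 := let_ 1
theorem l2 : T 47 = R 87 := let_ 2
theorem l3 : T 48 = R 88 := let_ 3
theorem l4 : T 49 = R 89 := let_ 4
theorem l5 : T 50 = R 90 := let_ 5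
theorem l6 : T 51 = R 91 := let_ 6
theorem l7 : T 52 = R 92 := let_ 7
theorem l8 : T 53 = R 93 := let_ 8
theorem l9 : T 54 = R 94 := let_ 9
theorem l20 : T 65 = R 105 := let_ 20
theorem l21 : T 66 = R 106 := let_ 21
theorem q84 : R 84 = R 105 * (R 106 * 1) :=
  stepR (i := 84) (w := [20, 21]) (by decide) (by rfl)
theorem b84 : T 44 = R 84 := by
  rw [t44, q84, l20, l21]
theorem q82 : R 82 = R 94 * (R 94 * 1) :=
  stepR (i := 82) (w := [11, 11]) (by decide) (by rfl)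
theorem b82 : T 43 = R 82 := by
  rw [t43, q82, l9]
theorem q81 : R 81 = R 92 * (R 92 * 1) :=
  stepR (i := 81) (w := [10, 10]) (by decide) (by rfl)
theorem b81 : T 42 = R 81 := by
  rw [t42, q81, l7]
theorem q80 : R 80 = R 81 * (R 93 * (R 82 * (R 92 * 1))) :=
  stepR (i := 80) (w := [0, 12, 1, 11]) (by decide) (by rfl)
theorem b80 : T 41 = R 80 := by
  rw [t41, q80, b81, l8, b82, l7]
theorem q79 : R 79 = R 89 * (R 89 * 1) :=
  stepR (i := 79) (w := [9, 9]) (by decide) (by rfl)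
theorem b79 : T 40 = R 79 := by
  rw [t40, q79, l4]
theorem q78 : R 78 = R 91 * (R 91 * 1) :=
  stepR (i := 78) (w := [12, 12]) (by decide) (by rfl)
theorem b78 : T 39 = R 78 := by
  rw [t39, q78, l6]
theorem q77 : R 77 = R 79 * (R 90 * (R 78 * (R 89 * 1))) :=
  stepR (i := 77) (w := [1, 12, 0, 11]) (by decide) (by rfl)
theorem b77 : T 38 = R 77 := by
  rw [t38, q77, b79, l5, b78, l4]
theorem q76 : R 76 = R 86 * (R 86 * 1) :=
  stepR (i := 76) (w := [9, 9]) (by decide) (by rfl)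
theorem b76 : T 37 = R 76 := by
  rw [t37, q76, l1]
theorem q75 : R 75 = R 88 * (R 88 * 1) :=
  stepR (i := 75) (w := [12, 12]) (by decide) (by rfl)
theorem b75 : T 36 = R 75 := by
  rw [t36, q75, l3]
theorem q74 : R 74 = R 76 * (R 87 * (R 75 * (R 86 * 1))) :=
  stepR (i := 74) (w := [1, 12, 0, 11]) (by decide) (by rfl)
theorem b74 : T 35 = R 74 := by
  rw [t35, q74, b76, l2, b75, l1]
theorem q73 : R 73 = R 80 * (R 77 * (R 74 * 1)) :=
  stepR (i := 73) (w := [6, 3, 0]) (by decide) (by rfl)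
theorem b73 : T 34 = R 73 := by
  rw [t34, q73, b80, b77, b74]
theorem q71 : R 71 = R 80 * (R 80 * (R 77 * 1)) :=
  stepR (i := 71) (w := [8, 8, 5]) (by decide) (by rfl)
theorem b71 : T 33 = R 71 := by
  rw [t33, q71, b80, b77]
theorem one_ : T 44 = 1 := b84.trans one_eq

theorem cert0 : Pr 6 (nf W A B C₁ D 0 0 0 0 1) := by
  have hz : T 24 = 1 := (eqT (by decide)).trans one_
  have hc : T 29 = 1 := (eqT (by decide)).trans one_
  have h := cert t31 t30 t29 hc t28 (pow11 t27 t26 t25 t24 hz) (by norm_num)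
  rw [b73] at h
  have e1 : nf W A B C₁ D 0 0 0 0 1 = W * 1 := by
    simp only [nf, zpow_ofNat, pow_zero, pow_one, pow_two, mul_one, one_mul, mul_assoc]
  rw [e1]
  exact h

theorem cert1 : Pr 6 (nf W A B C₁ D 0 1 0 0 0) := by
  have hz : T 16 = 1 := (eqT (by decide)).trans one_
  have hc : T 20 = 1 := (eqT (by decide)).trans one_
  have h := cert t22 t21 t20 hc t19 (pow7 t18 t17 t16 hz) (by norm_num)
  rw [b71] at h
  have e1 : nf W A B C₁ D 0 1 0 0 0 = B * 1 := by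
    simp only [nf, zpow_ofNat, pow_zero, pow_one, pow_two, mul_one, one_mul, mul_assoc]
  rw [e1]
  exact h

theorem cert2 : Pr 6 (nf W A B C₁ D 0 0 0 1 0) := by
  have hz : T 8 = 1 := (eqT (by decide)).trans one_
  have hc : T 12 = 1 := (eqT (by decide)).trans one_
  have h := cert t14 t13 t12 hc t11 (pow5 t10 t9 t8 hz) (by norm_num)
  rw [l0] at h
  have e1 : nf W A B C₁ D 0 0 0 1 0 = D * 1 := by
    simp only [nf, zpow_ofNat, pow_zero, pow_one, pow_two, mul_one, one_mul, mul_assoc]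
  rw [e1]
  exact h

theorem cert3 : Pr 6 (nf W A B C₁ D 0 1 0 1 0) := by
  have hz : T 0 = 1 := (eqT (by decide)).trans one_
  have hc : T 4 = 1 := (eqT (by decide)).trans one_
  have h := cert t6 t5 t4 hc t3 (pow7 t2 t1 t0 hz) (by norm_num)
  rw [b71, l0] at h
  have e1 : nf W A B C₁ D 0 1 0 1 0 = B * (D * 1) := by
    simp only [nf, zpow_ofNat, pow_zero, pow_one, pow_two, mul_one, one_mul, mul_assoc]
  rw [e1]
  exact h

end Cfsg.Agent.H981.Pw.HN3.A
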