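import Cfsg.Agent.H981.Pw.HNCert

/-!
# Certificates for 3-elements of the Harada-Norton group, part D (helper981, S2465; generated)
-/

set_option autoImplicit false
set_option maxRecDepth 100000

namespace Cfsg.Agent.H981.Pw.HN3.D

open Cfsg.Agent.Lib.PackMat Cfsg.Agent.Lib.PackMatGroup Cfsg.Agent.Lib.PackMatMul Cfsg.Agent.HN.RepData
open Cfsg.Agent.HN.Rep (L LG gens rho)
open Cfsg.Agent.HN Cfsg.Agent.H285.HN3 Cfsg.Agent.H839.Rad.Ext
open Cfsg.Agent.H78.Pw (Pr)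

def pg : List (ℕ × List ℕ) := [
  (20, [21]), (9, [9]), (11, [11]), (10, [10]), (0, [12, 1, 11]), (9, [9]), (12, [12]), (1, [12, 0, 11]),
  (3, [3, 0]), (9, [9]), (7, [16, 0, 11, 18, 32, 32, 34, 32, 32, 30, 36, 34, 32, 32, 16, 0, 11, 8]), (2, [2]),
  (14, [16, 21]), (0, [0]), (0, [0]), (0, [2]), (1, [5]), (0, [0]), (0, [0]), (0, [2]), (0, [0]), (0, [0]),
  (0, [1, 2]), (8, [14, 12]), (0, [0]), (0, [0]), (0, [0]), (0, [0]), (0, [3, 4]), (33, [37, 34]), (0, [0]),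
  (0, [0]), (0, [2]), (1, [21, 22]), (0, [0]), (0, [0]), (0, [0]), (0, [2, 3])]

def es2 : List (ℕ × ℕ) := [
  (22, 37), (15, 37), (9, 37), (5, 37), (0, 37)]

theorem chk2 : checkS C pg es2 [] Cfsg.Agent.HN.A12Step.L20 = true := by decide +kernel

noncomputable def T (i : ℕ) : Cfsg.Spor.HN := TT pg i

theorem eqT {i j : ℕ} (h : (i, j) ∈ es2) : T i = T j := eqTT chk2 (by decide) h

theorem stepT {i : ℕ} {w : List ℕ} (hi : i < pg.length)
    (hw : ((pg.reverse.getD i (0, [])).1 :: (pg.reverse.getD i (0, [])).2) = w) :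
    T i = evF (fun m => T (i + 1 + m)) w := stepTT hi hw

theorem let_ (m : ℕ) : T (38 + m) = R (85 + m) := letTT pg m

theorem t37 : T 37 = T 58 * (T 59 * 1) :=
  stepT (i := 37) (w := [20, 21]) (by decide) (by rfl)
theorem t36 : T 36 = T 46 * (T 46 * 1) :=
  stepT (i := 36) (w := [9, 9]) (by decide) (by rfl)
theorem t35 : T 35 = T 47 * (T 47 * 1) :=
  stepT (i := 35) (w := [11, 11]) (by decide) (by rfl)
theorem t34 : T 34 = T 45 * (T 45 * 1) :=
  stepT (i := 34) (w := [10, 10]) (by decide) (by rfl)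
theorem t33 : T 33 = T 34 * (T 46 * (T 35 * (T 45 * 1))) :=
  stepT (i := 33) (w := [0, 12, 1, 11]) (by decide) (by rfl)
theorem t32 : T 32 = T 42 * (T 42 * 1) :=
  stepT (i := 32) (w := [9, 9]) (by decide) (by rfl)
theorem t31 : T 31 = T 44 * (T 44 * 1) :=
  stepT (i := 31) (w := [12, 12]) (by decide) (by rfl)
theorem t30 : T 30 = T 32 * (T 43 * (T 31 * (T 42 * 1))) :=
  stepT (i := 30) (w := [1, 12, 0, 11]) (by decide) (by rfl)
theorem t29 : T 29 = T 33 * (T 33 * (T 30 * 1)) :=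
  stepT (i := 29) (w := [3, 3, 0]) (by decide) (by rfl)
theorem t28 : T 28 = T 38 * (T 38 * 1) :=
  stepT (i := 28) (w := [9, 9]) (by decide) (by rfl)
theorem t27 : T 27 = T 35 * (T 44 * (T 28 * (T 39 * (T 46 * (T 60 * (T 60 * (T 62 * (T 60 * (T 60 * (T 58 * (T 64 * (T 62 * (T 60 * (T 60 * (T 44 * (T 28 * (T 39 * (T 36 * 1)))))))))))))))))) :=
  stepT (i := 27) (w := [7, 16, 0, 11, 18, 32, 32, 34, 32, 32, 30, 36, 34, 32, 32, 16, 0, 11, 8]) (by decide) (by rfl)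
theorem t26 : T 26 = T 29 * (T 29 * 1) :=
  stepT (i := 26) (w := [2, 2]) (by decide) (by rfl)
theorem t25 : T 25 = T 40 * (T 42 * (T 47 * 1)) :=
  stepT (i := 25) (w := [14, 16, 21]) (by decide) (by rfl)
theorem t24 : T 24 = T 25 * (T 25 * 1) :=
  stepT (i := 24) (w := [0, 0]) (by decide) (by rfl)
theorem t23 : T 23 = T 24 * (T 24 * 1) :=
  stepT (i := 23) (w := [0, 0]) (by decide) (by rfl)
theorem t22 : T 22 = T 23 * (T 25 * 1) :=
  stepT (i := 22) (w := [0, 2]) (by decide) (by rfl)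
theorem t21 : T 21 = T 23 * (T 27 * 1) :=
  stepT (i := 21) (w := [1, 5]) (by decide) (by rfl)
theorem t20 : T 20 = T 21 * (T 21 * 1) :=
  stepT (i := 20) (w := [0, 0]) (by decide) (by rfl)
theorem t19 : T 19 = T 20 * (T 20 * 1) :=
  stepT (i := 19) (w := [0, 0]) (by decide) (by rfl)
theorem t18 : T 18 = T 19 * (T 21 * 1) :=
  stepT (i := 18) (w := [0, 2]) (by decide) (by rfl)
theorem t17 : T 17 = T 18 * (T 18 * 1) :=
  stepT (i := 17) (w := [0, 0]) (by decide) (by rfl)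
theorem t16 : T 16 = T 17 * (T 17 * 1) :=
  stepT (i := 16) (w := [0, 0]) (by decide) (by rfl)
theorem t15 : T 15 = T 16 * (T 17 * (T 18 * 1)) :=
  stepT (i := 15) (w := [0, 1, 2]) (by decide) (by rfl)
theorem t14 : T 14 = T 23 * (T 29 * (T 27 * 1)) :=
  stepT (i := 14) (w := [8, 14, 12]) (by decide) (by rfl)
theorem t13 : T 13 = T 14 * (T 14 * 1) :=
  stepT (i := 13) (w := [0, 0]) (by decide) (by rfl)
theorem t12 : T 12 = T 13 * (T 13 * 1) :=
  stepT (i := 12) (w := [0, 0]) (by decide) (by rfl)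
theorem t11 : T 11 = T 12 * (T 12 * 1) :=
  stepT (i := 11) (w := [0, 0]) (by decide) (by rfl)
theorem t10 : T 10 = T 11 * (T 11 * 1) :=
  stepT (i := 10) (w := [0, 0]) (by decide) (by rfl)
theorem t9 : T 9 = T 10 * (T 13 * (T 14 * 1)) :=
  stepT (i := 9) (w := [0, 3, 4]) (by decide) (by rfl)
theorem t8 : T 8 = T 42 * (T 46 * (T 43 * 1)) :=
  stepT (i := 8) (w := [33, 37, 34]) (by decide) (by rfl)
theorem t7 : T 7 = T 8 * (T 8 * 1) :=
  stepT (i := 7) (w := [0, 0]) (by decide) (by rfl)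
theorem t6 : T 6 = T 7 * (T 7 * 1) :=
  stepT (i := 6) (w := [0, 0]) (by decide) (by rfl)
theorem t5 : T 5 = T 6 * (T 8 * 1) :=
  stepT (i := 5) (w := [0, 2]) (by decide) (by rfl)
theorem t4 : T 4 = T 6 * (T 26 * (T 27 * 1)) :=
  stepT (i := 4) (w := [1, 21, 22]) (by decide) (by rfl)
theorem t3 : T 3 = T 4 * (T 4 * 1) :=
  stepT (i := 3) (w := [0, 0]) (by decide) (by rfl)
theorem t2 : T 2 = T 3 * (T 3 * 1) :=
  stepT (i := 2) (w := [0, 0]) (by decide) (by rfl)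
theorem t1 : T 1 = T 2 * (T 2 * 1) :=
  stepT (i := 1) (w := [0, 0]) (by decide) (by rfl)
theorem t0 : T 0 = T 1 * (T 3 * (T 4 * 1)) :=
  stepT (i := 0) (w := [0, 2, 3]) (by decide) (by rfl)

theorem l0 : T 38 = R 85 := let_ 0
theorem l1 : T 39 = R 86 := let_ 1
theorem l4 : T 42 = R 89 := let_ 4
theorem l5 : T 43 = R 90 := let_ 5
theorem l6 : T 44 = R 91 := let_ 6
theorem l7 : T 45 = R 92 := let_ 7
theorem l8 : T 46 = R 93 := let_ 8
theorem l9 : T 47 = R 94 := let_ 9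
theorem l20 : T 58 = R 105 := let_ 20
theorem l21 : T 59 = R 106 := let_ 21
theorem l22 : T 60 = R 107 := let_ 22
theorem l24 : T 62 = R 109 := let_ 24
theorem l26 : T 64 = R 111 := let_ 26
theorem q84 : R 84 = R 105 * (R 106 * 1) :=
  stepR (i := 84) (w := [20, 21]) (by decide) (by rfl)
theorem b84 : T 37 = R 84 := by
  rw [t37, q84, l20, l21]
theorem q83 : R 83 = R 93 * (R 93 * 1) :=
  stepR (i := 83) (w := [9, 9]) (by decide) (by rfl)
theorem b83 : T 36 = R 83 := by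
  rw [t36, q83, l8]
theorem q82 : R 82 = R 94 * (R 94 * 1) :=
  stepR (i := 82) (w := [11, 11]) (by decide) (by rfl)
theorem b82 : T 35 = R 82 := by
  rw [t35, q82, l9]
theorem q81 : R 81 = R 92 * (R 92 * 1) :=
  stepR (i := 81) (w := [10, 10]) (by decide) (by rfl)
theorem b81 : T 34 = R 81 := by
  rw [t34, q81, l7]
theorem q80 : R 80 = R 81 * (R 93 * (R 82 * (R 92 * 1))) :=
  stepR (i := 80) (w := [0, 12, 1, 11]) (by decide) (by rfl)
theorem b80 : T 33 = R 80 := by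
  rw [t33, q80, b81, l8, b82, l7]
theorem q79 : R 79 = R 89 * (R 89 * 1) :=
  stepR (i := 79) (w := [9, 9]) (by decide) (by rfl)
theorem b79 : T 32 = R 79 := by
  rw [t32, q79, l4]
theorem q78 : R 78 = R 91 * (R 91 * 1) :=
  stepR (i := 78) (w := [12, 12]) (by decide) (by rfl)
theorem b78 : T 31 = R 78 := by
  rw [t31, q78, l6]
theorem q77 : R 77 = R 79 * (R 90 * (R 78 * (R 89 * 1))) :=
  stepR (i := 77) (w := [1, 12, 0, 11]) (by decide) (by rfl)
theorem b77 : T 30 = R 77 := by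
  rw [t30, q77, b79, l5, b78, l4]
theorem q71 : R 71 = R 80 * (R 80 * (R 77 * 1)) :=
  stepR (i := 71) (w := [8, 8, 5]) (by decide) (by rfl)
theorem b71 : T 29 = R 71 := by
  rw [t29, q71, b80, b77]
theorem q65 : R 65 = R 85 * (R 85 * 1) :=
  stepR (i := 65) (w := [19, 19]) (by decide) (by rfl)
theorem b65 : T 28 = R 65 := by
  rw [t28, q65, l0]
theorem q62 : R 62 = R 82 * (R 91 * (R 65 * (R 86 * (R 93 * (R 107 * (R 107 * (R 109 * (R 107 * (R 107 * (R 105 * (R 111 * (R 109 * (R 107 * (R 107 * (R 91 * (R 65 * (R 86 * (R 83 * 1)))))))))))))))))) :=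
  stepR (i := 62) (w := [19, 28, 2, 23, 30, 44, 44, 46, 44, 44, 42, 48, 46, 44, 44, 28, 2, 23, 20]) (by decide) (by rfl)
theorem b62 : T 27 = R 62 := by
  rw [t27, q62, b82, l6, b65, l1, l8, l22, l24, l20, l26, b83]
theorem q60 : R 60 = R 71 * (R 71 * 1) :=
  stepR (i := 60) (w := [10, 10]) (by decide) (by rfl)
theorem b60 : T 26 = R 60 := by
  rw [t26, q60, b71]
theorem one_ : T 37 = 1 := b84.trans one_eq

theorem cert8 : Pr 6 (nf W A B C₁ D 0 0 1 0 0) := by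
  have hz : T 15 = 1 := (eqT (by decide)).trans one_
  have hc : T 22 = 1 := (eqT (by decide)).trans one_
  have h := cert t24 t23 t22 hc t21 (pow35 t20 t19 t18 t17 t16 t15 hz) (by norm_num)
  rw [b62] at h
  have e1 : nf W A B C₁ D 0 0 1 0 0 = C₁ * 1 := by
    simp only [nf, zpow_ofNat, pow_zero, pow_one, pow_two, mul_one, one_mul, mul_assoc]
  rw [e1]
  exact h

theorem cert9 : Pr 6 (nf W A B C₁ D 0 1 1 0 0) := by
  have hz : T 9 = 1 := (eqT (by decide)).trans one_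
  have hc : T 22 = 1 := (eqT (by decide)).trans one_
  have h := cert t24 t23 t22 hc t14 (pow19 t13 t12 t11 t10 t9 hz) (by norm_num)
  rw [b71, b62] at h
  have e1 : nf W A B C₁ D 0 1 1 0 0 = B * (C₁ * 1) := by
    simp only [nf, zpow_ofNat, pow_zero, pow_one, pow_two, mul_one, one_mul, mul_assoc]
  rw [e1]
  exact h

theorem cert10 : Pr 6 (nf W A B C₁ D 0 2 1 0 0) := by
  have hz : T 0 = 1 := (eqT (by decide)).trans one_
  have hc : T 5 = 1 := (eqT (by decide)).trans one_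
  have h := cert t7 t6 t5 hc t4 (pow11 t3 t2 t1 t0 hz) (by norm_num)
  rw [b60, q60, b62] at h
  have e1 : nf W A B C₁ D 0 2 1 0 0 = (B * (B * 1)) * (C₁ * 1) := by
    simp only [nf, zpow_ofNat, pow_zero, pow_one, pow_two, mul_one, one_mul, mul_assoc]
  rw [e1]
  exact h

end Cfsg.Agent.H981.Pw.HN3.D
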