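import Cfsg.Agent.H981.Pw.HNCert

/-!
# Certificates for 3-elements of the Harada-Norton group, part F (helper981, S2465; generated)
-/

set_option autoImplicit false
set_option maxRecDepth 100000

namespace Cfsg.Agent.H981.Pw.HN3.F

open Cfsg.Agent.Lib.PackMat Cfsg.Agent.Lib.PackMatGroup Cfsg.Agent.Lib.PackMatMul Cfsg.Agent.HN.RepData
open Cfsg.Agent.HN.Rep (L LG gens rho)
open Cfsg.Agent.HN Cfsg.Agent.H285.HN3 Cfsg.Agent.H839.Rad.Ext
open Cfsg.Agent.H78.Pw (Pr)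

def pg : List (ℕ × List ℕ) := [
  (20, [21]), (9, [9]), (11, [11]), (10, [10]), (5, [5]), (8, [8]), (0, [12, 3, 9]), (9, [9]), (0, [13, 6, 10]),
  (4, [13, 5, 10]), (3, [1, 0]), (11, [11]),
  (9, [18, 0, 13, 20, 34, 34, 36, 34, 34, 32, 38, 36, 34, 34, 18, 0, 13, 10]), (0, [0]), (14, [14]), (19, [23, 20]),
  (0, [0]), (0, [0]), (0, [2]), (1, [8, 5]), (0, [0]), (0, [0]), (0, [1, 2]), (25, [27, 32]), (0, [0]), (0, [0]),
  (0, [2]), (1, [16, 13, 27]), (0, [0]), (0, [0]), (0, [0]), (0, [0]), (0, [3, 4]), (38, [33, 41]), (0, [0]),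
  (0, [0]), (0, [2]), (1, [26, 23, 22]), (0, [0]), (0, [0]), (0, [1, 2])]

def es2 : List (ℕ × ℕ) := [
  (22, 40), (18, 40), (14, 40), (8, 40), (4, 40), (0, 40)]

theorem chk2 : checkS C pg es2 [] Cfsg.Agent.HN.A12Step.L20 = true := by decide +kernel

noncomputable def T (i : ℕ) : Cfsg.Spor.HN := TT pg i

theorem eqT {i j : ℕ} (h : (i, j) ∈ es2) : T i = T j := eqTT chk2 (by decide) h

theorem stepT {i : ℕ} {w : List ℕ} (hi : i < pg.length)
    (hw : ((pg.reverse.getD i (0, [])).1 :: (pg.reverse.getD i (0, [])).2) = w) :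
    T i = evF (fun m => T (i + 1 + m)) w := stepTT hi hw

theorem let_ (m : ℕ) : T (41 + m) = R (85 + m) := letTT pg m

theorem t40 : T 40 = T 61 * (T 62 * 1) :=
  stepT (i := 40) (w := [20, 21]) (by decide) (by rfl)
theorem t39 : T 39 = T 49 * (T 49 * 1) :=
  stepT (i := 39) (w := [9, 9]) (by decide) (by rfl)
theorem t38 : T 38 = T 50 * (T 50 * 1) :=
  stepT (i := 38) (w := [11, 11]) (by decide) (by rfl)
theorem t37 : T 37 = T 48 * (T 48 * 1) :=
  stepT (i := 37) (w := [10, 10]) (by decide) (by rfl)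
theorem t36 : T 36 = T 42 * (T 42 * 1) :=
  stepT (i := 36) (w := [5, 5]) (by decide) (by rfl)
theorem t35 : T 35 = T 44 * (T 44 * 1) :=
  stepT (i := 35) (w := [8, 8]) (by decide) (by rfl)
theorem t34 : T 34 = T 35 * (T 47 * (T 38 * (T 44 * 1))) :=
  stepT (i := 34) (w := [0, 12, 3, 9]) (by decide) (by rfl)
theorem t33 : T 33 = T 43 * (T 43 * 1) :=
  stepT (i := 33) (w := [9, 9]) (by decide) (by rfl)
theorem t32 : T 32 = T 33 * (T 46 * (T 39 * (T 43 * 1))) :=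
  stepT (i := 32) (w := [0, 13, 6, 10]) (by decide) (by rfl)
theorem t31 : T 31 = T 36 * (T 45 * (T 37 * (T 42 * 1))) :=
  stepT (i := 31) (w := [4, 13, 5, 10]) (by decide) (by rfl)
theorem t30 : T 30 = T 34 * (T 32 * (T 31 * 1)) :=
  stepT (i := 30) (w := [3, 1, 0]) (by decide) (by rfl)
theorem t29 : T 29 = T 41 * (T 41 * 1) :=
  stepT (i := 29) (w := [11, 11]) (by decide) (by rfl)
theorem t28 : T 28 = T 38 * (T 47 * (T 29 * (T 42 * (T 49 * (T 63 * (T 63 * (T 65 * (T 63 * (T 63 * (T 61 * (T 67 * (T 65 * (T 63 * (T 63 * (T 47 * (T 29 * (T 42 * (T 39 * 1)))))))))))))))))) :=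
  stepT (i := 28) (w := [9, 18, 0, 13, 20, 34, 34, 36, 34, 34, 32, 38, 36, 34, 34, 18, 0, 13, 10]) (by decide) (by rfl)
theorem t27 : T 27 = T 28 * (T 28 * 1) :=
  stepT (i := 27) (w := [0, 0]) (by decide) (by rfl)
theorem t26 : T 26 = T 41 * (T 41 * 1) :=
  stepT (i := 26) (w := [14, 14]) (by decide) (by rfl)
theorem t25 : T 25 = T 45 * (T 49 * (T 46 * 1)) :=
  stepT (i := 25) (w := [19, 23, 20]) (by decide) (by rfl)
theorem t24 : T 24 = T 25 * (T 25 * 1) :=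
  stepT (i := 24) (w := [0, 0]) (by decide) (by rfl)
theorem t23 : T 23 = T 24 * (T 24 * 1) :=
  stepT (i := 23) (w := [0, 0]) (by decide) (by rfl)
theorem t22 : T 22 = T 23 * (T 25 * 1) :=
  stepT (i := 22) (w := [0, 2]) (by decide) (by rfl)
theorem t21 : T 21 = T 23 * (T 30 * (T 27 * 1)) :=
  stepT (i := 21) (w := [1, 8, 5]) (by decide) (by rfl)
theorem t20 : T 20 = T 21 * (T 21 * 1) :=
  stepT (i := 20) (w := [0, 0]) (by decide) (by rfl)
theorem t19 : T 19 = T 20 * (T 20 * 1) :=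
  stepT (i := 19) (w := [0, 0]) (by decide) (by rfl)
theorem t18 : T 18 = T 19 * (T 20 * (T 21 * 1)) :=
  stepT (i := 18) (w := [0, 1, 2]) (by decide) (by rfl)
theorem t17 : T 17 = T 43 * (T 45 * (T 50 * 1)) :=
  stepT (i := 17) (w := [25, 27, 32]) (by decide) (by rfl)
theorem t16 : T 16 = T 17 * (T 17 * 1) :=
  stepT (i := 16) (w := [0, 0]) (by decide) (by rfl)
theorem t15 : T 15 = T 16 * (T 16 * 1) :=
  stepT (i := 15) (w := [0, 0]) (by decide) (by rfl)
theorem t14 : T 14 = T 15 * (T 17 * 1) :=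
  stepT (i := 14) (w := [0, 2]) (by decide) (by rfl)
theorem t13 : T 13 = T 15 * (T 30 * (T 27 * (T 41 * 1))) :=
  stepT (i := 13) (w := [1, 16, 13, 27]) (by decide) (by rfl)
theorem t12 : T 12 = T 13 * (T 13 * 1) :=
  stepT (i := 12) (w := [0, 0]) (by decide) (by rfl)
theorem t11 : T 11 = T 12 * (T 12 * 1) :=
  stepT (i := 11) (w := [0, 0]) (by decide) (by rfl)
theorem t10 : T 10 = T 11 * (T 11 * 1) :=
  stepT (i := 10) (w := [0, 0]) (by decide) (by rfl)
theorem t9 : T 9 = T 10 * (T 10 * 1) :=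
  stepT (i := 9) (w := [0, 0]) (by decide) (by rfl)
theorem t8 : T 8 = T 9 * (T 12 * (T 13 * 1)) :=
  stepT (i := 8) (w := [0, 3, 4]) (by decide) (by rfl)
theorem t7 : T 7 = T 46 * (T 41 * (T 49 * 1)) :=
  stepT (i := 7) (w := [38, 33, 41]) (by decide) (by rfl)
theorem t6 : T 6 = T 7 * (T 7 * 1) :=
  stepT (i := 6) (w := [0, 0]) (by decide) (by rfl)
theorem t5 : T 5 = T 6 * (T 6 * 1) :=
  stepT (i := 5) (w := [0, 0]) (by decide) (by rfl)
theorem t4 : T 4 = T 5 * (T 7 * 1) :=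
  stepT (i := 4) (w := [0, 2]) (by decide) (by rfl)
theorem t3 : T 3 = T 5 * (T 30 * (T 27 * (T 26 * 1))) :=
  stepT (i := 3) (w := [1, 26, 23, 22]) (by decide) (by rfl)
theorem t2 : T 2 = T 3 * (T 3 * 1) :=
  stepT (i := 2) (w := [0, 0]) (by decide) (by rfl)
theorem t1 : T 1 = T 2 * (T 2 * 1) :=
  stepT (i := 1) (w := [0, 0]) (by decide) (by rfl)
theorem t0 : T 0 = T 1 * (T 2 * (T 3 * 1)) :=
  stepT (i := 0) (w := [0, 1, 2]) (by decide) (by rfl)

theorem l0 : T 41 = R 85 := let_ 0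
theorem l1 : T 42 = R 86 := let_ 1
theorem l2 : T 43 = R 87 := let_ 2
theorem l3 : T 44 = R 88 := let_ 3
theorem l4 : T 45 = R 89 := let_ 4
theorem l5 : T 46 = R 90 := let_ 5
theorem l6 : T 47 = R 91 := let_ 6
theorem l7 : T 48 = R 92 := let_ 7
theorem l8 : T 49 = R 93 := let_ 8
theorem l9 : T 50 = R 94 := let_ 9
theorem l20 : T 61 = R 105 := let_ 20
theorem l21 : T 62 = R 106 := let_ 21
theorem l22 : T 63 = R 107 := let_ 22
theorem l24 : T 65 = R 109 := let_ 24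
theorem l26 : T 67 = R 111 := let_ 26
theorem q84 : R 84 = R 105 * (R 106 * 1) :=
  stepR (i := 84) (w := [20, 21]) (by decide) (by rfl)
theorem b84 : T 40 = R 84 := by
  rw [t40, q84, l20, l21]
theorem q83 : R 83 = R 93 * (R 93 * 1) :=
  stepR (i := 83) (w := [9, 9]) (by decide) (by rfl)
theorem b83 : T 39 = R 83 := by
  rw [t39, q83, l8]
theorem q82 : R 82 = R 94 * (R 94 * 1) :=
  stepR (i := 82) (w := [11, 11]) (by decide) (by rfl)
theorem b82 : T 38 = R 82 := by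
  rw [t38, q82, l9]
theorem q81 : R 81 = R 92 * (R 92 * 1) :=
  stepR (i := 81) (w := [10, 10]) (by decide) (by rfl)
theorem b81 : T 37 = R 81 := by
  rw [t37, q81, l7]
theorem q76 : R 76 = R 86 * (R 86 * 1) :=
  stepR (i := 76) (w := [9, 9]) (by decide) (by rfl)
theorem b76 : T 36 = R 76 := by
  rw [t36, q76, l1]
theorem q75 : R 75 = R 88 * (R 88 * 1) :=
  stepR (i := 75) (w := [12, 12]) (by decide) (by rfl)
theorem b75 : T 35 = R 75 := by
  rw [t35, q75, l3]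
theorem q70 : R 70 = R 75 * (R 91 * (R 82 * (R 88 * 1))) :=
  stepR (i := 70) (w := [4, 20, 11, 17]) (by decide) (by rfl)
theorem b70 : T 34 = R 70 := by
  rw [t34, q70, b75, l6, b82, l3]
theorem q69 : R 69 = R 87 * (R 87 * 1) :=
  stepR (i := 69) (w := [17, 17]) (by decide) (by rfl)
theorem b69 : T 33 = R 69 := by
  rw [t33, q69, l2]
theorem q68 : R 68 = R 69 * (R 90 * (R 83 * (R 87 * 1))) :=
  stepR (i := 68) (w := [0, 21, 14, 18]) (by decide) (by rfl)
theorem b68 : T 32 = R 68 := by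
  rw [t32, q68, b69, l5, b83, l2]
theorem q67 : R 67 = R 76 * (R 89 * (R 81 * (R 86 * 1))) :=
  stepR (i := 67) (w := [8, 21, 13, 18]) (by decide) (by rfl)
theorem b67 : T 31 = R 67 := by
  rw [t31, q67, b76, l4, b81, l1]
theorem q66 : R 66 = R 70 * (R 68 * (R 67 * 1)) :=
  stepR (i := 66) (w := [3, 1, 0]) (by decide) (by rfl)
theorem b66 : T 30 = R 66 := by
  rw [t30, q66, b70, b68, b67]
theorem q65 : R 65 = R 85 * (R 85 * 1) :=
  stepR (i := 65) (w := [19, 19]) (by decide) (by rfl)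
theorem b65 : T 29 = R 65 := by
  rw [t29, q65, l0]
theorem q62 : R 62 = R 82 * (R 91 * (R 65 * (R 86 * (R 93 * (R 107 * (R 107 * (R 109 * (R 107 * (R 107 * (R 105 * (R 111 * (R 109 * (R 107 * (R 107 * (R 91 * (R 65 * (R 86 * (R 83 * 1)))))))))))))))))) :=
  stepR (i := 62) (w := [19, 28, 2, 23, 30, 44, 44, 46, 44, 44, 42, 48, 46, 44, 44, 28, 2, 23, 20]) (by decide) (by rfl)
theorem b62 : T 28 = R 62 := by
  rw [t28, q62, b82, l6, b65, l1, l8, l22, l24, l20, l26, b83]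
theorem q59 : R 59 = R 62 * (R 62 * 1) :=
  stepR (i := 59) (w := [2, 2]) (by decide) (by rfl)
theorem b59 : T 27 = R 59 := by
  rw [t27, q59, b62]
theorem q58 : R 58 = R 85 * (R 85 * 1) :=
  stepR (i := 58) (w := [26, 26]) (by decide) (by rfl)
theorem b58 : T 26 = R 58 := by
  rw [t26, q58, l0]
theorem one_ : T 40 = 1 := b84.trans one_eq

theorem cert14 : Pr 6 (nf W A B C₁ D 1 0 2 0 0) := by
  have hz : T 18 = 1 := (eqT (by decide)).trans one_
  have hc : T 22 = 1 := (eqT (by decide)).trans one_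
  have h := cert t24 t23 t22 hc t21 (pow7 t20 t19 t18 hz) (by norm_num)
  rw [b66, b59, q59] at h
  have e1 : nf W A B C₁ D 1 0 2 0 0 = A * ((C₁ * (C₁ * 1)) * 1) := by
    simp only [nf, zpow_ofNat, pow_zero, pow_one, pow_two, mul_one, one_mul, mul_assoc]
  rw [e1]
  exact h

theorem cert15 : Pr 6 (nf W A B C₁ D 1 0 2 1 0) := by
  have hz : T 8 = 1 := (eqT (by decide)).trans one_
  have hc : T 14 = 1 := (eqT (by decide)).trans one_
  have h := cert t16 t15 t14 hc t13 (pow19 t12 t11 t10 t9 t8 hz) (by norm_num)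
  rw [b66, b59, q59, l0] at h
  have e1 : nf W A B C₁ D 1 0 2 1 0 = A * ((C₁ * (C₁ * 1)) * (D * 1)) := by
    simp only [nf, zpow_ofNat, pow_zero, pow_one, pow_two, mul_one, one_mul, mul_assoc]
  rw [e1]
  exact h

theorem cert16 : Pr 6 (nf W A B C₁ D 1 0 2 2 0) := by
  have hz : T 0 = 1 := (eqT (by decide)).trans one_
  have hc : T 4 = 1 := (eqT (by decide)).trans one_
  have h := cert t6 t5 t4 hc t3 (pow7 t2 t1 t0 hz) (by norm_num)
  rw [b66, b59, q59, b58, q58] at h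
  have e1 : nf W A B C₁ D 1 0 2 2 0 = A * ((C₁ * (C₁ * 1)) * ((D * (D * 1)) * 1)) := by
    simp only [nf, zpow_ofNat, pow_zero, pow_one, pow_two, mul_one, one_mul, mul_assoc]
  rw [e1]
  exact h

end Cfsg.Agent.H981.Pw.HN3.F
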