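import Cfsg.Agent.H285.Ccp.HNThree
import Cfsg.Agent.H749.PCl
import Cfsg.Agent.H981.Pw.HNMatA
import Cfsg.Agent.H981.Pw.HNMatB
import Cfsg.Agent.H981.Pw.HNMatC
import Cfsg.Agent.H981.Pw.HNMatD
import Cfsg.Agent.H981.Pw.HNMatE
import Cfsg.Agent.H981.Pw.HNMatF
import Cfsg.Agent.H981.Pw.HNMatG

/-!
# The 3-elements of the Harada-Norton group are products of two elements of order prime to 6 (helper981, S2465)

`pr6_P` : the elements of the Sylow 3-subgroup `P = 3 ^ (1 + 4) ⟨F⟩` of `H285.HN3`; `pr6_three` : all 3-elements.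
-/

set_option autoImplicit false

namespace Cfsg.Agent.H981.Pw.HN3

open Cfsg.Agent.H285.HN3 Cfsg.Agent.H839.Rad.Ext
open Cfsg.Agent.H78.Pw (Pr)
open Cfsg (Spor.HN)

/-- the normal form -/
noncomputable abbrev N (i j u l m : ℤ) : Cfsg.Spor.HN := nf W A B C₁ D i j u l m

/-- exponents modulo 3 -/
theorem N_mod {i j u l m i' j' u' l' m' : ℤ} (h1 : (3 : ℤ) ∣ i - i') (h2 : (3 : ℤ) ∣ j - j') (h3 : (3 : ℤ) ∣ u - u')
    (h4 : (3 : ℤ) ∣ l - l') (h5 : (3 : ℤ) ∣ m - m') : N i j u l m = N i' j' u' l' m' := by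
  unfold N nf
  rw [zpow_eq ext.ha h1, zpow_eq ext.hb h2, zpow_eq ext.hc h3, zpow_eq ext.hd h4, zpow_eq e_w3 h5]

theorem N_inv (i j u l m : ℤ) : (N i j u l m)⁻¹ = N (-i) (-j) (-u) (-l) (-m - i * j - u * l) := by
  rw [inv_eq_iff_mul_eq_one, ext.nf_mul, ← nf_zero (w := W) (a := A) (b := B) (c := C₁) (d := D)]
  exact nf_eq (by ring) (by ring) (by ring) (by ring) (by ring)

/-- conjugation inside `Q` -/
theorem conj_Q (a b c d i j u l m : ℤ) :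
    N a b c d 0 * N i j u l m * (N a b c d 0)⁻¹ = N i j u l (m + (a * j - i * b + c * l - u * d)) := by
  rw [ext.nf_mul_comm]
  have h1 : ∀ e : ℤ, W ^ e = nf W A B C₁ D 0 0 0 0 e := fun e => by simp [nf]
  rw [mul_assoc, mul_inv_cancel_right, h1, ext.nf_mul]
  exact nf_eq (by ring) (by ring) (by ring) (by ring) (by ring)

/-- all exponents of `W` -/
theorem shift {i j u l m0 : ℤ} (hv : ¬ ((3 : ℤ) ∣ i ∧ (3 : ℤ) ∣ j ∧ (3 : ℤ) ∣ u ∧ (3 : ℤ) ∣ l))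
    (h : Pr 6 (N i j u l m0)) (m : ℤ) : Pr 6 (N i j u l m) := by
  have key : ∀ a b c d : ℤ, (3 : ℤ) ∣ m0 + (a * j - i * b + c * l - u * d) - m → Pr 6 (N i j u l m) := by
    intro a b c d hd
    have h1 := h.conj (N a b c d 0)
    rw [conj_Q] at h1
    rwa [N_mod (i' := i) (j' := j) (u' := u) (l' := l) (m' := m) (by simp) (by simp) (by simp) (by simp) hd] at h1
  have sq : ∀ t : ℤ, ¬ (3 : ℤ) ∣ t → ∃ q : ℤ, t * t = 1 + 3 * q := by
    intro t ht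
    have h3 : t % 3 = 1 ∨ t % 3 = 2 := by omega
    rcases h3 with h | h
    · obtain ⟨q, hq⟩ : ∃ q, t = 3 * q + 1 := ⟨t / 3, by omega⟩
      exact ⟨3 * q * q + 2 * q, by rw [hq]; ring⟩
    · obtain ⟨q, hq⟩ : ∃ q, t = 3 * q + 2 := ⟨t / 3, by omega⟩
      exact ⟨3 * q * q + 4 * q + 1, by rw [hq]; ring⟩
  by_cases hi : (3 : ℤ) ∣ i
  · by_cases hj : (3 : ℤ) ∣ j
    · by_cases hu : (3 : ℤ) ∣ u
      · have hl : ¬ (3 : ℤ) ∣ l := fun hl => hv ⟨hi, hj, hu, hl⟩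
        obtain ⟨q, hq⟩ := sq l hl
        refine key 0 0 ((m - m0) * l) 0 ⟨(m - m0) * q, ?_⟩
        linear_combination (m - m0) * hq
      · obtain ⟨q, hq⟩ := sq u hu
        refine key 0 0 0 (-(m - m0) * u) ⟨(m - m0) * q, ?_⟩
        linear_combination (m - m0) * hq
    · obtain ⟨q, hq⟩ := sq j hj
      refine key ((m - m0) * j) 0 0 0 ⟨(m - m0) * q, ?_⟩
      linear_combination (m - m0) * hq
  · obtain ⟨q, hq⟩ := sq i hi
    refine key 0 (-(m - m0) * i) 0 0 ⟨(m - m0) * q, ?_⟩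
    linear_combination (m - m0) * hq

/-- conjugation by `F` -/
theorem conj_F (i j u l : ℕ) (m : ℤ) : ∃ m' : ℤ, F * N i j u l m * F⁻¹ = N i (j + i) u (l + 2 * u) m' := by
  obtain ⟨e1, -, h1⟩ := ext.nf_pow 1 1 0 0 1 i
  obtain ⟨e2, -, h2⟩ := ext.nf_pow 0 0 1 2 2 u
  have h0 : N i j u l m = A ^ i * B ^ j * C₁ ^ u * D ^ l * W ^ m := by
    unfold N nf
    rw [zpow_natCast, zpow_natCast, zpow_natCast, zpow_natCast]
  have hB : B ^ j = nf W A B C₁ D 0 j 0 0 0 := by simp [nf]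
  have hD : D ^ l = nf W A B C₁ D 0 0 0 l 0 := by simp [nf]
  have hW : W ^ m = nf W A B C₁ D 0 0 0 0 m := by simp [nf]
  have h3 : F * N i j u l m * F⁻¹ =
      (F * A * F⁻¹) ^ i * (F * B * F⁻¹) ^ j * (F * C₁ * F⁻¹) ^ u * (F * D * F⁻¹) ^ l * (F * W * F⁻¹) ^ m := by
    rw [h0, conj_pow, conj_pow, conj_pow, conj_pow, conj_zpow]
    group
  rw [h3, F_A, F_B, F_C, F_D, F_W, h1, h2, hB, hD, hW, ext.nf_mul, ext.nf_mul, ext.nf_mul, ext.nf_mul]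
  exact ⟨_, nf_eq (by ring) (by ring) (by ring) (by ring) rfl⟩

/-- the statement for a coset of `⟨W⟩` -/
def G (i j u l : ZMod 3) : Prop := ∀ m : ℤ, Pr 6 (N i.val j.val u.val l.val m)

theorem val_dvd {a : ZMod 3} (h : (3 : ℤ) ∣ ((a.val : ℕ) : ℤ)) : a = 0 := by
  have h1 : a.val < 3 := ZMod.val_lt a
  have h2 : a.val = 0 := by
    obtain ⟨k, hk⟩ := h
    omega
  exact (ZMod.val_eq_zero a).1 h2

theorem val_sub {a : ZMod 3} {t : ℤ} (h : (t : ZMod 3) = a) : (3 : ℤ) ∣ t - ((a.val : ℕ) : ℤ) := by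
  have h1 : ((t - ((a.val : ℕ) : ℤ) : ℤ) : ZMod 3) = 0 := by
    push_cast
    rw [h, ZMod.natCast_val, ZMod.cast_id', id_eq, sub_self]
  exact (ZMod.intCast_zmod_eq_zero_iff_dvd _ 3).1 h1

theorem G_of {i j u l : ZMod 3} (hv : ¬ (i = 0 ∧ j = 0 ∧ u = 0 ∧ l = 0)) {i' j' u' l' m' : ℤ}
    (h : Pr 6 (N i' j' u' l' m')) (hi : (i' : ZMod 3) = i) (hj : (j' : ZMod 3) = j) (hu : (u' : ZMod 3) = u)
    (hl : (l' : ZMod 3) = l) : G i j u l := by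
  rw [N_mod (val_sub hi) (val_sub hj) (val_sub hu) (val_sub hl) (m' := m') (by simp)] at h
  exact shift (fun ⟨h1, h2, h3, h4⟩ => hv ⟨val_dvd h1, val_dvd h2, val_dvd h3, val_dvd h4⟩) h

theorem G_F {i j u l : ZMod 3} (hv : ¬ (i = 0 ∧ j = 0 ∧ u = 0 ∧ l = 0)) (h : G i j u l) : G i (j + i) u (l + 2 * u) := by
  obtain ⟨m', hm⟩ := conj_F i.val j.val u.val l.val 0
  have h1 := (h 0).conj F
  rw [hm] at h1
  refine G_of ?_ h1 ?_ ?_ ?_ ?_
  · rintro ⟨rfl, h2, rfl, h3⟩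
    exact hv ⟨rfl, by simpa using h2, rfl, by simpa using h3⟩
  · push_cast; rw [ZMod.natCast_val, ZMod.cast_id', id_eq]
  · push_cast; rw [ZMod.natCast_val, ZMod.cast_id', id_eq, ZMod.natCast_val, ZMod.cast_id', id_eq]
  · push_cast; rw [ZMod.natCast_val, ZMod.cast_id', id_eq]
  · push_cast; rw [ZMod.natCast_val, ZMod.cast_id', id_eq, ZMod.natCast_val, ZMod.cast_id', id_eq]

theorem G_neg {i j u l : ZMod 3} (hv : ¬ (i = 0 ∧ j = 0 ∧ u = 0 ∧ l = 0)) (h : G i j u l) : G (-i) (-j) (-u) (-l) := by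
  have h1 := (h 0).inv
  rw [N_inv] at h1
  refine G_of ?_ h1 ?_ ?_ ?_ ?_
  · rintro ⟨h1, h2, h3, h4⟩
    exact hv ⟨neg_eq_zero.1 h1, neg_eq_zero.1 h2, neg_eq_zero.1 h3, neg_eq_zero.1 h4⟩
  all_goals push_cast; rw [ZMod.natCast_val, ZMod.cast_id', id_eq]

/-- the representatives -/
def reps : List (ℤ × ℤ × ℤ × ℤ) :=
  [(0, 1, 0, 0), (0, 0, 0, 1), (0, 1, 0, 1), (0, 1, 0, 2), (1, 0, 0, 0), (1, 0, 0, 1), (1, 0, 0, 2), (0, 0, 1, 0),
   (0, 1, 1, 0), (0, 2, 1, 0), (1, 0, 1, 0), (1, 0, 1, 1), (1, 0, 1, 2), (1, 0, 2, 0), (1, 0, 2, 1), (1, 0, 2, 2)]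

theorem reps_ok : ∀ v ∈ reps, Pr 6 (N v.1 v.2.1 v.2.2.1 v.2.2.2 0) := by
  intro v hv
  simp only [reps, List.mem_cons, List.not_mem_nil, or_false] at hv
  rcases hv with rfl | rfl | rfl | rfl | rfl | rfl | rfl | rfl | rfl | rfl | rfl | rfl | rfl | rfl | rfl | rfl
  · exact A.cert1
  · exact A.cert2
  · exact A.cert3
  · exact B.cert4
  · exact B.cert5
  · exact B.cert6
  · exact B.cert7
  · exact D.cert8
  · exact D.cert9
  · exact D.cert10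
  · exact E.cert11
  · exact E.cert12
  · exact E.cert13
  · exact F.cert14
  · exact F.cert15
  · exact F.cert16

theorem cover : ∀ i j u l : ZMod 3, ¬ (i = 0 ∧ j = 0 ∧ u = 0 ∧ l = 0) → ∃ v ∈ reps, ∃ k : Fin 3, ∃ s : Bool,
    (bif s then -i else i) = (v.1 : ZMod 3) ∧ (bif s then -j else j) = (v.2.1 : ZMod 3) + ((k : ℕ) : ZMod 3) * v.1 ∧
    (bif s then -u else u) = (v.2.2.1 : ZMod 3) ∧
    (bif s then -l else l) = (v.2.2.2 : ZMod 3) + ((k : ℕ) : ZMod 3) * 2 * v.2.2.1 := by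
  decide +kernel

theorem G_all (i j u l : ZMod 3) (hv : ¬ (i = 0 ∧ j = 0 ∧ u = 0 ∧ l = 0)) : G i j u l := by
  obtain ⟨v, hvr, k, s, h1, h2, h3, h4⟩ := cover i j u l hv
  have key : ∀ i j u l : ZMod 3, ¬ (i = 0 ∧ j = 0 ∧ u = 0 ∧ l = 0) → i = (v.1 : ZMod 3) →
      j = (v.2.1 : ZMod 3) + ((k : ℕ) : ZMod 3) * v.1 → u = (v.2.2.1 : ZMod 3) →
      l = (v.2.2.2 : ZMod 3) + ((k : ℕ) : ZMod 3) * 2 * v.2.2.1 → G i j u l := by
    intro i j u l hv h1 h2 h3 h4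
    have hnv : ∀ n : ℕ, ¬ ((v.1 : ZMod 3) = 0 ∧ (v.2.1 : ZMod 3) + (n : ZMod 3) * v.1 = 0 ∧ (v.2.2.1 : ZMod 3) = 0 ∧
        (v.2.2.2 : ZMod 3) + (n : ZMod 3) * 2 * v.2.2.1 = 0) := by
      rintro n ⟨k1, k2, k3, k4⟩
      apply hv
      rw [k1, mul_zero, add_zero] at k2
      rw [k3, mul_zero, add_zero] at k4
      rw [h1, h2, h3, h4, k1, k2, k3, k4]
      simp
    have h0 : ∀ n : ℕ, G (v.1 : ZMod 3) ((v.2.1 : ZMod 3) + (n : ZMod 3) * v.1) (v.2.2.1 : ZMod 3)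
        ((v.2.2.2 : ZMod 3) + (n : ZMod 3) * 2 * v.2.2.1) := by
      intro n
      induction n with
      | zero =>
        have h := G_of (hnv 0) (reps_ok v hvr) rfl (by simp) rfl (by simp)
        exact h
      | succ n ih =>
        have h := G_F (hnv n) ih
        have e1 : (v.2.1 : ZMod 3) + (n : ZMod 3) * v.1 + v.1 = (v.2.1 : ZMod 3) + ((n + 1 : ℕ) : ZMod 3) * v.1 := by
          push_cast; ring
        have e2 : (v.2.2.2 : ZMod 3) + (n : ZMod 3) * 2 * v.2.2.1 + 2 * v.2.2.1 =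
            (v.2.2.2 : ZMod 3) + ((n + 1 : ℕ) : ZMod 3) * 2 * v.2.2.1 := by
          push_cast; ring
        rwa [e1, e2] at h
    rw [h1, h2, h3, h4]
    exact h0 k
  cases s with
  | false => exact key i j u l hv h1 h2 h3 h4
  | true =>
    have hv' : ¬ (-i = 0 ∧ -j = 0 ∧ -u = 0 ∧ -l = 0) := by
      rintro ⟨h1, h2, h3, h4⟩
      exact hv ⟨neg_eq_zero.1 h1, neg_eq_zero.1 h2, neg_eq_zero.1 h3, neg_eq_zero.1 h4⟩
    have h := G_neg hv' (key _ _ _ _ hv' h1 h2 h3 h4)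
    rwa [neg_neg, neg_neg, neg_neg, neg_neg] at h

/-- the powers of `W` -/
theorem pr6_W (m : ℤ) : Pr 6 (N 0 0 0 0 m) := by
  have h3 : (3 : ℤ) ∣ m - 0 ∨ (3 : ℤ) ∣ m - 1 ∨ (3 : ℤ) ∣ m - (-1) := by omega
  rcases h3 with h | h | h
  · rw [N_mod (i' := 0) (j' := 0) (u' := 0) (l' := 0) (by simp) (by simp) (by simp) (by simp) h]
    rw [show N 0 0 0 0 0 = 1 from nf_zero]
    exact Pr.one 6
  · rw [N_mod (i' := 0) (j' := 0) (u' := 0) (l' := 0) (by simp) (by simp) (by simp) (by simp) h]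
    exact A.cert0
  · have h1 : Pr 6 (N 0 0 0 0 1)⁻¹ := Pr.inv A.cert0
    rw [N_inv] at h1
    rwa [N_mod (i' := -0) (j' := -0) (u' := -0) (l' := -0) (m' := -1 - 0 * 0 - 0 * 0) (by simp) (by simp) (by simp)
      (by simp) (by simpa using h)]

/-- **the elements of `Q`** -/
theorem pr6_Q {x : Cfsg.Spor.HN} (hx : x ∈ ext.Q) : Pr 6 x := by
  obtain ⟨i, j, u, l, m, rfl⟩ := hx
  by_cases hv : (i : ZMod 3) = 0 ∧ (j : ZMod 3) = 0 ∧ (u : ZMod 3) = 0 ∧ (l : ZMod 3) = 0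
  · obtain ⟨h1, h2, h3, h4⟩ := hv
    have hd : ∀ {t : ℤ}, (t : ZMod 3) = 0 → (3 : ℤ) ∣ t - 0 := fun {t} ht => by
      rw [sub_zero]; exact (ZMod.intCast_zmod_eq_zero_iff_dvd t 3).1 ht
    have h := pr6_W m
    rwa [← N_mod (i := i) (j := j) (u := u) (l := l) (m := m) (hd h1) (hd h2) (hd h3) (hd h4) (by simp)] at h
  · have h := G_all _ _ _ _ hv m
    rwa [← N_mod (i := i) (j := j) (u := u) (l := l) (m := m) (val_sub rfl) (val_sub rfl) (val_sub rfl) (val_sub rfl)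
      (by simp)] at h

/-! ### the coset of `F` -/

theorem comm_BF : B * F = F * B := by
  have h := F_B
  rw [mul_inv_eq_iff_eq_mul] at h
  exact h.symm

theorem comm_DF : D * F = F * D := by
  have h := F_D
  rw [mul_inv_eq_iff_eq_mul] at h
  exact h.symm

/-- conjugation by elements commuting with `F` -/
theorem shift_F {i u m0 : ℤ} (hv : ¬ ((3 : ℤ) ∣ i ∧ (3 : ℤ) ∣ u)) (h : Pr 6 (N i 0 u 0 m0 * F)) (m : ℤ) :
    Pr 6 (N i 0 u 0 m * F) := by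
  have key : ∀ b d : ℤ, (3 : ℤ) ∣ m0 + (0 * 0 - i * b + 0 * 0 - u * d) - m → Pr 6 (N i 0 u 0 m * F) := by
    intro b d hd
    have h1 := h.conj (N 0 b 0 d 0)
    have h2 : N 0 b 0 d 0 * F = F * N 0 b 0 d 0 := by
      have e : N 0 b 0 d 0 = B ^ b * D ^ d := by simp [N, nf]
      rw [e]
      exact (((show Commute B F from comm_BF).zpow_left b).mul_left ((show Commute D F from comm_DF).zpow_left d)).eq
    have h3 : N 0 b 0 d 0 * (N i 0 u 0 m0 * F) * (N 0 b 0 d 0)⁻¹ =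
        N 0 b 0 d 0 * N i 0 u 0 m0 * (N 0 b 0 d 0)⁻¹ * F := by
      calc N 0 b 0 d 0 * (N i 0 u 0 m0 * F) * (N 0 b 0 d 0)⁻¹
          = N 0 b 0 d 0 * N i 0 u 0 m0 * (N 0 b 0 d 0)⁻¹ * (N 0 b 0 d 0 * F) * (N 0 b 0 d 0)⁻¹ := by group
        _ = N 0 b 0 d 0 * N i 0 u 0 m0 * (N 0 b 0 d 0)⁻¹ * (F * N 0 b 0 d 0) * (N 0 b 0 d 0)⁻¹ := by rw [h2]
        _ = _ := by group
    rw [h3, conj_Q] at h1
    rwa [N_mod (i' := i) (j' := 0) (u' := u) (l' := 0) (m' := m) (by simp) (by simp) (by simp) (by simp) hd] at h1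
  have sq : ∀ t : ℤ, ¬ (3 : ℤ) ∣ t → ∃ q : ℤ, t * t = 1 + 3 * q := by
    intro t ht
    have h3 : t % 3 = 1 ∨ t % 3 = 2 := by omega
    rcases h3 with h | h
    · obtain ⟨q, hq⟩ : ∃ q, t = 3 * q + 1 := ⟨t / 3, by omega⟩
      exact ⟨3 * q * q + 2 * q, by rw [hq]; ring⟩
    · obtain ⟨q, hq⟩ : ∃ q, t = 3 * q + 2 := ⟨t / 3, by omega⟩
      exact ⟨3 * q * q + 4 * q + 1, by rw [hq]; ring⟩
  by_cases hi : (3 : ℤ) ∣ i
  · have hu : ¬ (3 : ℤ) ∣ u := fun hu => hv ⟨hi, hu⟩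
    obtain ⟨q, hq⟩ := sq u hu
    refine key 0 (-(m - m0) * u) ⟨(m - m0) * q, ?_⟩
    linear_combination (m - m0) * hq
  · obtain ⟨q, hq⟩ := sq i hi
    refine key (-(m - m0) * i) 0 ⟨(m - m0) * q, ?_⟩
    linear_combination (m - m0) * hq

/-- conjugation by `S` -/
theorem conj_S (i u m : ℤ) : S * (N i 0 u 0 m * F) * S⁻¹ = N (-i) 0 (-u) 0 m * F := by
  have h0 : ∀ i u m : ℤ, N i 0 u 0 m = A ^ i * C₁ ^ u * W ^ m := fun i u m => by simp [N, nf]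
  rw [h0, h0]
  calc S * (A ^ i * C₁ ^ u * W ^ m * F) * S⁻¹
      = (S * A * S⁻¹) ^ i * (S * C₁ * S⁻¹) ^ u * (S * W * S⁻¹) ^ m * (S * F * S⁻¹) := by
        rw [conj_zpow, conj_zpow, conj_zpow]; group
    _ = _ := by rw [S_A, S_C, S_W, S_F, inv_zpow', inv_zpow']

theorem pr6_F0 (i u m : ℤ) : Pr 6 (N i 0 u 0 m * F) := by
  have hmod : ∀ {i u m i' u' m' : ℤ}, (3 : ℤ) ∣ i - i' → (3 : ℤ) ∣ u - u' → (3 : ℤ) ∣ m - m' →
      Pr 6 (N i' 0 u' 0 m' * F) → Pr 6 (N i 0 u 0 m * F) := by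
    intro i u m i' u' m' h1 h2 h3 h
    rwa [N_mod (i' := i') (j' := 0) (u' := u') (l' := 0) (m' := m') h1 (by simp) h2 (by simp) h3]
  have c20 : Pr 6 (N 1 0 0 0 0 * F) := C.cert20
  have c21 : Pr 6 (N 0 0 1 0 0 * F) := G.cert21
  have c22 : Pr 6 (N 1 0 1 0 0 * F) := G.cert22
  have c23 : Pr 6 (N 1 0 2 0 0 * F) := G.cert23
  have c17 : Pr 6 (N 0 0 0 0 0 * F) := C.cert17
  have c18 : Pr 6 (N 0 0 0 0 1 * F) := C.cert18
  have c19 : Pr 6 (N 0 0 0 0 2 * F) := C.cert19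
  have hneg : ∀ {i u : ℤ}, ¬ ((3 : ℤ) ∣ i ∧ (3 : ℤ) ∣ u) → Pr 6 (N i 0 u 0 0 * F) → ∀ m : ℤ, Pr 6 (N (-i) 0 (-u) 0 m * F) := by
    intro i u hv h m
    have h1 := h.conj S
    rw [conj_S] at h1
    exact shift_F (fun ⟨h2, h3⟩ => hv ⟨(dvd_neg).1 h2, (dvd_neg).1 h3⟩) h1 m
  have hi : i % 3 = 0 ∨ i % 3 = 1 ∨ i % 3 = 2 := by omega
  have hu : u % 3 = 0 ∨ u % 3 = 1 ∨ u % 3 = 2 := by omega
  rcases hi with hi | hi | hi <;> rcases hu with hu | hu | hu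
  · have hm : (3 : ℤ) ∣ m - 0 ∨ (3 : ℤ) ∣ m - 1 ∨ (3 : ℤ) ∣ m - 2 := by omega
    rcases hm with hm | hm | hm
    · exact hmod (by omega) (by omega) hm c17
    · exact hmod (by omega) (by omega) hm c18
    · exact hmod (by omega) (by omega) hm c19
  · exact hmod (m' := m) (by omega) (by omega) (by simp) (shift_F (by decide) c21 m)
  · exact hmod (m' := m) (by omega) (by omega) (by simp) (hneg (by decide) c21 m)
  · exact hmod (m' := m) (by omega) (by omega) (by simp) (shift_F (by decide) c20 m)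
  · exact hmod (m' := m) (by omega) (by omega) (by simp) (shift_F (by decide) c22 m)
  · exact hmod (m' := m) (by omega) (by omega) (by simp) (shift_F (by decide) c23 m)
  · exact hmod (m' := m) (by omega) (by omega) (by simp) (hneg (by decide) c20 m)
  · exact hmod (m' := m) (by omega) (by omega) (by simp) (hneg (by decide) c23 m)
  · exact hmod (m' := m) (by omega) (by omega) (by simp) (hneg (by decide) c22 m)

theorem pr6_F {q : Cfsg.Spor.HN} (hq : q ∈ ext.Q) : Pr 6 (q * F) := by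
  obtain ⟨i, j, u, l, m, rfl⟩ := hq
  -- the exponent of `D`
  have hl : ∀ i u m l : ℤ, Pr 6 (nf W A B C₁ D i 0 u l m * F) := by
    intro i u m l
    have s0 : ∀ l m : ℤ, (3 : ℤ) ∣ l → Pr 6 (nf W A B C₁ D i 0 u l m * F) := by
      intro l m h
      rw [nf_mod (j' := 0) (l' := 0) (by simp) (by simpa using h)]
      exact pr6_F0 i u m
    have s2 : ∀ l m : ℤ, (3 : ℤ) ∣ l - 2 → Pr 6 (nf W A B C₁ D i 0 u l m * F) := by
      intro l m h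
      apply Pr.of_conj (x := C₁)
      obtain ⟨m', hm⟩ := conj_C i 0 u l m
      rw [hm]
      exact s0 _ _ h
    have h3 : (3 : ℤ) ∣ l ∨ (3 : ℤ) ∣ l - 2 ∨ (3 : ℤ) ∣ (l - 2) - 2 := by omega
    rcases h3 with h | h | h
    · exact s0 l m h
    · exact s2 l m h
    · apply Pr.of_conj (x := C₁)
      obtain ⟨m', hm⟩ := conj_C i 0 u l m
      rw [hm]
      exact s2 _ _ h
  have s0 : ∀ j m : ℤ, (3 : ℤ) ∣ j → Pr 6 (nf W A B C₁ D i j u l m * F) := by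
    intro j m h
    rw [nf_mod (j' := 0) (l' := l) (by simpa using h) (by simp)]
    exact hl i u m l
  have s1 : ∀ j m : ℤ, (3 : ℤ) ∣ j - 1 → Pr 6 (nf W A B C₁ D i j u l m * F) := by
    intro j m h
    apply Pr.of_conj (x := A)
    obtain ⟨m', hm⟩ := conj_A i j u l m
    rw [hm]
    exact s0 _ _ h
  have h3 : (3 : ℤ) ∣ j ∨ (3 : ℤ) ∣ j - 1 ∨ (3 : ℤ) ∣ (j - 1) - 1 := by omega
  rcases h3 with h | h | h
  · exact s0 j m h
  · exact s1 j m h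
  · apply Pr.of_conj (x := A)
    obtain ⟨m', hm⟩ := conj_A i j u l m
    rw [hm]
    exact s1 _ _ h

/-- **the elements of the Sylow 3-subgroup** -/
theorem pr6_P {x : Cfsg.Spor.HN} (hx : x ∈ P) : Pr 6 x := by
  obtain ⟨q, hq, s, rfl⟩ := hx
  have h3 : (3 : ℤ) ∣ s - 0 ∨ (3 : ℤ) ∣ s - 1 ∨ (3 : ℤ) ∣ s - (-1) := by omega
  rcases h3 with h | h | h
  · rw [zpow_eq e_f3 h, zpow_zero, mul_one]
    exact pr6_Q hq
  · rw [zpow_eq e_f3 h, zpow_one]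
    exact pr6_F hq
  · rw [zpow_eq e_f3 h, zpow_neg_one]
    have h1 := (pr6_F (F_Q _ (inv_mem hq))).inv
    have h2 : (F * q⁻¹ * F⁻¹ * F)⁻¹ = q * F⁻¹ := by group
    rwa [h2] at h1

/-- **all 3-elements** -/
theorem pr6_three {x : Cfsg.Spor.HN} {k : ℕ} (hx : x ^ 3 ^ k = 1) : Pr 6 x := by
  obtain ⟨g, hg⟩ := H749.exists_conj_mem (p := 3) P index_P (x := x) ⟨k, hx⟩
  exact Pr.of_conj (pr6_P hg)

end Cfsg.Agent.H981.Pw.HN3
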