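import Cfsg.Agent.H981.Pw.HNMM
import Cfsg.Agent.H981.Pw.HNThree
import Cfsg.Agent.H981.Ore.HNT1
import Cfsg.Agent.H285.Ccp.HNFive

/-!
# The row HN of S2465: frame (helper981)

`pw_of` : `Pw Spor.HN` from the `19'`-degrees (`≥ 771`) and the centralizer bounds for the elements of composite order without a
power conjugate to `W0`.
-/

set_option autoImplicit false

namespace Cfsg.Agent.H981.Pw.HN

open Cfsg.Agent.HN Cfsg.Agent.HN.Pres Cfsg.Agent.HN.P1408 Cfsg.Agent.HN.H0Basic Cfsg.Agent.HN.XMat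
open Cfsg.Agent.HN.XStruct Cfsg.Agent.HN.XWords Cfsg.Agent.HN.XQuot Cfsg.Agent.HN.XInst
open Cfsg.Agent
open Cfsg.Agent.KFacts.HN
open Cfsg.Agent.H78.Pw
open Cfsg.Agent.H981.Ore

instance : Finite Cfsg.Spor.HN := finite_HN

/-- **(T1)** -/
theorem pr_small (hd : H511.Ore.DegOff Cfsg.Spor.HN 19 771) {g : Cfsg.Spor.HN}
    (hc : Nat.card (Subgroup.centralizer ({g} : Set Cfsg.Spor.HN)) ≤ 10249) {n : ℕ} (hn : Nat.Coprime 19 n) : Pr n g := by
  obtain ⟨x, hx, -⟩ := H845.HNNineteen.hn_nineteen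
  exact Gen.pr_of_prd (HNT1.sc19.prd hx hx hd hc (by norm_num)) (by rw [hx]; exact hn) (by rw [hx]; exact hn)

/-- products of two elements of order dividing 5 -/
theorem pr_MM {g : Cfsg.Spor.HN} (hg : g ∈ MM) (h1 : g ≠ 1) (hW : g ≠ W0) {n : ℕ} (hn : Nat.Coprime 5 n) : Pr n g := by
  obtain ⟨a, b, e, ha, hb⟩ := HNMM.pr_MM hg h1 hW
  exact ⟨a, b, e, Nat.Coprime.of_dvd_left (orderOf_dvd_of_pow_eq_one ha) hn,
    Nat.Coprime.of_dvd_left (orderOf_dvd_of_pow_eq_one hb) hn⟩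

theorem mem_MM_of_mask (m : ℕ) (hm : m < 256) (b : Bool) : r Q m * sgn0 b ∈ MM := RS_le_MM (mem_RS.2 ⟨m, hm, b, rfl⟩)

/-- a product `r Q m * sgn0 b` with `m ≠ 0` is not in the centre -/
theorem ne_of_mask {m : ℕ} (hm : m < 256) (hm0 : m ≠ 0) (b : Bool) : r Q m * sgn0 b ≠ 1 ∧ r Q m * sgn0 b ≠ W0 := by
  constructor
  · intro h
    have h4 : r Q m * sgn0 b = r Q 0 * sgn0 false := by
      rw [h, show r Q 0 = 1 from Bas.r_zero, one_mul]; rfl
    exact hm0 (r_sgn_inj hm (by norm_num) h4).1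
  · intro h
    have h4 : r Q m * sgn0 b = r Q 0 * sgn0 true := by
      rw [h, show r Q 0 = 1 from Bas.r_zero, one_mul]; rfl
    exact hm0 (r_sgn_inj hm (by norm_num) h4).1

/-- involutions -/
theorem pr_two {g : Cfsg.Spor.HN} (hg : orderOf g = 2) {n : ℕ} (hn : Nat.Coprime 5 n) : Pr n g := by
  rcases Classes.inv_class hg with h | h
  · have h1 : IsConj (Q 0) (r Q 1 * sgn0 false) := kind_D (m := 1) (by norm_num) (by decide +kernel) false
    have h3 : Q 0 = NormalH.ψ τ := inst.t_eq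
    rw [h3] at h1
    obtain ⟨k1, k2⟩ := ne_of_mask (m := 1) (by norm_num) (by norm_num) false
    exact (pr_MM (mem_MM_of_mask 1 (by norm_num) false) k1 k2 hn).of_isConj (h.trans h1).symm
  · obtain ⟨k1, k2⟩ := ne_of_mask (m := 3) (by norm_num) (by norm_num) false
    exact (pr_MM (mem_MM_of_mask 3 (by norm_num) false) k1 k2 hn).of_isConj (h.trans (base_S false)).symm

/-- primes dividing the order -/
theorem prime_cases {p : ℕ} (hp : p.Prime) (hd : p ∣ 273030912000000) :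
    p = 2 ∨ p = 3 ∨ p = 5 ∨ p = 7 ∨ p = 11 ∨ p = 19 := by
  have hd2 : p ∣ 2 ^ 14 * (3 ^ 6 * (5 ^ 6 * (7 * (11 * 19)))) := by
    refine hd.trans (dvd_of_eq ?_)
    norm_num
  rcases hp.dvd_mul.1 hd2 with h | h
  · exact Or.inl ((Nat.prime_dvd_prime_iff_eq hp Nat.prime_two).1 (hp.dvd_of_dvd_pow h))
  rcases hp.dvd_mul.1 h with h | h
  · exact Or.inr (Or.inl ((Nat.prime_dvd_prime_iff_eq hp Nat.prime_three).1 (hp.dvd_of_dvd_pow h)))
  rcases hp.dvd_mul.1 h with h | h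
  · exact Or.inr (Or.inr (Or.inl ((Nat.prime_dvd_prime_iff_eq hp (by norm_num)).1 (hp.dvd_of_dvd_pow h))))
  rcases hp.dvd_mul.1 h with h | h
  · exact Or.inr (Or.inr (Or.inr (Or.inl ((Nat.prime_dvd_prime_iff_eq hp (by norm_num)).1 h))))
  rcases hp.dvd_mul.1 h with h | h
  · exact Or.inr (Or.inr (Or.inr (Or.inr (Or.inl ((Nat.prime_dvd_prime_iff_eq hp (by norm_num)).1 h)))))
  · exact Or.inr (Or.inr (Or.inr (Or.inr (Or.inr ((Nat.prime_dvd_prime_iff_eq hp (by norm_num)).1 h)))))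

theorem orderOf_dvd_card (g : Cfsg.Spor.HN) : orderOf g ∣ 273030912000000 := by
  rw [← Classes.card_HN]
  exact orderOf_dvd_natCard g

/-- elements of prime order -/
theorem pr_prime {g : Cfsg.Spor.HN} (hp : (orderOf g).Prime) :
    Pr 6 g ∧ ∀ p : ℕ, p.Prime → 5 ≤ p → Pr p g := by
  constructor
  · rcases prime_cases hp (orderOf_dvd_card g) with h | h | h | h | h | h
    · exact pr_two h (by norm_num)
    · exact HN3.pr6_three (k := 1) (by rw [pow_one, ← h, pow_orderOf_eq_one])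
    all_goals exact Pr.of_coprime (by rw [h]; norm_num)
  · intro p hpp h5
    by_cases he : orderOf g = p
    · have hm : H497.Stein.MovedAt g := by
        rcases prime_cases hp (orderOf_dvd_card g) with h | h | h | h | h | h
        · omega
        · omega
        · exact H285.HN5.moved_five g h
        all_goals exact HNPrime.moved_of_card (by norm_num) (by norm_num) g h
      exact Gen.pr_of_moved hpp he hm
    · exact Pr.of_coprime ((Nat.coprime_primes hp hpp).2 he)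

/-- `A5` for the prime 5 -/
theorem pr_LL {y : Lq} (hy : y ∈ LL) : Pr 5 y := by
  obtain ⟨y1, y2, rfl⟩ := mem_LL.1 hy
  obtain ⟨a1, b1, ha3, -, hab1⟩ := HNA5.three y1
  obtain ⟨a2, b2, ha2, -, hab2⟩ := HNA5.three y2
  have h3 : ∀ x y : A5, x ^ 3 = 1 → y ^ 3 = 1 → (φA x * φB y) ^ 3 = 1 := by
    intro x y hx hy
    rw [(show Commute (φA x) (φB y) from comm_AB x y).mul_pow, ← map_pow, ← map_pow, hx, hy, map_one, map_one, one_mul]
  have hAB : ∀ s t : A5, φA s * φB t = φB t * φA s := comm_AB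
  refine ⟨φA a1 * φB a2, φA (b1 * a1⁻¹ * b1⁻¹) * φB (b2 * a2⁻¹ * b2⁻¹), ?_, ?_, ?_⟩
  · rw [← hab1, ← hab2]
    have e1 : a1 * b1 * a1⁻¹ * b1⁻¹ = a1 * (b1 * a1⁻¹ * b1⁻¹) := by group
    have e2 : a2 * b2 * a2⁻¹ * b2⁻¹ = a2 * (b2 * a2⁻¹ * b2⁻¹) := by group
    have key : ∀ s t : A5, ∀ s' t' : A5, φA (s * s') * φB (t * t') = φA s * φB t * (φA s' * φB t') := by
      intro s t s' t'
      rw [map_mul, map_mul, mul_assoc (φA s), ← mul_assoc (φA s'), hAB s' t]
      simp only [mul_assoc]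
    rw [e1, e2, key]
  · exact Nat.Coprime.of_dvd_left (orderOf_dvd_of_pow_eq_one (h3 _ _ ha3 ha2)) (by norm_num)
  · have hc : ∀ a b : A5, a ^ 3 = 1 → (b * a⁻¹ * b⁻¹) ^ 3 = 1 := by
      intro a b ha
      rw [conj_pow, inv_pow, ha]; group
    exact Nat.Coprime.of_dvd_left (orderOf_dvd_of_pow_eq_one (h3 _ _ (hc _ _ ha3) (hc _ _ ha2))) (by norm_num)

theorem pr5_MM {g : Cfsg.Spor.HN} (hg : g ∈ MM) : Pr 5 g := by
  obtain ⟨hgP, hL⟩ := mem_MM.1 hg
  have h := Gen.pr_of_quot ρ ρ_surj (n := 5) (by rw [card_ker]; norm_num) (g := ⟨g, hgP⟩) (pr_LL hL)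
  exact h.of_sub

/-- elements of order divisible by 19 have prime order -/
theorem prime_of_nineteen {g : Cfsg.Spor.HN} (h : 19 ∣ orderOf g) : (orderOf g).Prime := by
  have hs : IsSimpleGroup Cfsg.Spor.HN := Cfsg.Agent.S1701.result.1
  obtain ⟨x, hx, hcx⟩ := H845.HNNineteen.hn_nineteen
  have hp19 : Fact (Nat.Prime 19) := ⟨by norm_num⟩
  obtain ⟨-, -, -, -, P, hP, hC, -, hconj⟩ := H65.Ore.setup HNT1.not_comm (p := 19) (by norm_num) Classes.card_HN hx hcx
    9 2 59 (by decide +kernel)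
  obtain ⟨k, hk⟩ := h
  have hk0 : k ≠ 0 := by
    rintro rfl
    rw [mul_zero] at hk
    exact (orderOf_pos g).ne' hk
  have hgk : orderOf (g ^ k) = 19 := by
    rw [orderOf_pow' g hk0, hk, Nat.gcd_eq_right (Dvd.intro_left _ rfl), Nat.mul_div_cancel _ (Nat.pos_of_ne_zero hk0)]
  obtain ⟨z, hzP, hz1, hyz⟩ := hconj (g ^ k) hgk
  have h2 : Subgroup.centralizer ({z} : Set Cfsg.Spor.HN) = (P : Subgroup Cfsg.Spor.HN) := by
    rw [← hC, show Subgroup.centralizer (P : Set Cfsg.Spor.HN) =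
      Subgroup.centralizer ((P : Subgroup Cfsg.Spor.HN) : Set Cfsg.Spor.HN) from rfl,
      ← H65.Ore.zpowers_eq (P := (P : Subgroup Cfsg.Spor.HN)) hP hzP hz1,
      SmallSimple.SelfCentPrime.centralizer_zpowers]
  have h3 : Nat.card (Subgroup.centralizer ({g ^ k} : Set Cfsg.Spor.HN)) = 19 := by
    rw [← Blocks.SylowIn.card_centralizer_of_isConj hyz, h2]
    exact hP
  have h4 : g ∈ Subgroup.centralizer ({g ^ k} : Set Cfsg.Spor.HN) := by
    rw [Subgroup.mem_centralizer_singleton_iff]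
    exact (Commute.self_pow g k).eq
  have h5 : orderOf g ∣ 19 := by
    rw [← h3, ← Subgroup.orderOf_mk g h4]
    exact orderOf_dvd_natCard _
  have h6 : orderOf g = 19 := Nat.dvd_antisymm h5 ⟨k, hk⟩
  rw [h6]; norm_num

/-- **The frame of the row.** -/
theorem pw_of (hd : H511.Ore.DegOff Cfsg.Spor.HN 19 771)
    (hC : ∀ g : Cfsg.Spor.HN, g ≠ 1 → ¬ (orderOf g).Prime → (∀ n : ℕ, ¬ IsConj (g ^ n) W0) →
      Nat.card (Subgroup.centralizer ({g} : Set Cfsg.Spor.HN)) ≤ 10249 ∨ orderOf g = 9 ∨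
        (orderOf g = 25 ∧ ∃ b : Cfsg.Spor.HN, b * g * b⁻¹ = g⁻¹)) : Pw Cfsg.Spor.HN := by
  have key : ∀ g : Cfsg.Spor.HN, Pr 6 g ∧ ∀ p : ℕ, p.Prime → 5 ≤ p → p ∣ 273030912000000 → Pr p g := by
    intro g
    by_cases h1 : g = 1
    · rw [h1]; exact ⟨Pr.one 6, fun p _ _ _ => Pr.one p⟩
    by_cases hp : (orderOf g).Prime
    · exact ⟨(pr_prime hp).1, fun p h2 h3 _ => (pr_prime hp).2 p h2 h3⟩
    have h19 : (orderOf g).Coprime 19 := by
      refine ((Nat.Prime.coprime_iff_not_dvd (by norm_num)).2 fun h => hp (prime_of_nineteen h)).symm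
    -- small centralizers
    have hsmall : Nat.card (Subgroup.centralizer ({g} : Set Cfsg.Spor.HN)) ≤ 10249 →
        Pr 6 g ∧ ∀ p : ℕ, p.Prime → 5 ≤ p → p ∣ 273030912000000 → Pr p g := by
      intro hc
      refine ⟨pr_small hd hc (by norm_num), fun p hpp h5 hpd => ?_⟩
      rcases prime_cases hpp hpd with h | h | h | h | h | h
      · omega
      · omega
      · rw [h]; exact pr_small hd hc (by norm_num)
      · rw [h]; exact pr_small hd hc (by norm_num)
      · rw [h]; exact pr_small hd hc (by norm_num)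
      · rw [h]; exact Pr.of_coprime h19
    by_cases hW : ∃ n : ℕ, IsConj (g ^ n) W0
    · obtain ⟨n, hn⟩ := hW
      obtain ⟨c, hc⟩ := isConj_iff.1 hn
      have e1 : (c * g * c⁻¹) ^ n = W0 := by rw [conj_pow, hc]
      by_cases hm : c * g * c⁻¹ ∈ MM
      · have ho : orderOf (c * g * c⁻¹) = orderOf g := (MulAut.conj c).orderOf_eq g
        have hne : c * g * c⁻¹ ≠ 1 := by
          intro h
          apply h1
          rw [← orderOf_eq_one_iff, ← ho, h, orderOf_one]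
        have hneW : c * g * c⁻¹ ≠ W0 := by
          intro h
          apply hp
          rw [← ho, h, orderOf_eq_prime (p := 2) (by rw [pow_two]; exact W0_sq) W0_ne]
          exact Nat.prime_two
        refine ⟨Pr.of_conj (pr_MM hm hne hneW (by norm_num)), fun p hpp h5 hpd => ?_⟩
        by_cases hp5 : p = 5
        · rw [hp5]; exact Pr.of_conj (pr5_MM hm)
        · exact Pr.of_conj (pr_MM hm hne hneW ((Nat.coprime_primes (by norm_num) hpp).2 (Ne.symm hp5)))
      · apply hsmall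
        rw [← HNPP.card_cent_conj c g]
        exact (HNPP.card_le_of_pow e1 hm).trans (by norm_num)
    · push Not at hW
      rcases hC g h1 hp hW with h | h | ⟨h, b, hb⟩
      · exact hsmall h
      · refine ⟨HN3.pr6_three (k := 2) ?_, fun p hpp h5 _ => Pr.of_coprime ?_⟩
        · have : g ^ 9 = 1 := by rw [← h, pow_orderOf_eq_one]
          rw [show 3 ^ 2 = 9 by norm_num]; exact this
        · rw [h, show 9 = 3 ^ 2 by norm_num]
          exact Nat.Coprime.pow_left 2 ((Nat.coprime_primes (by norm_num) hpp).2 (by omega))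
      · refine ⟨Pr.of_coprime (by rw [h]; norm_num), fun p hpp h5 _ => ?_⟩
        exact Gen.pr_of_real_odd hb (by rw [h]; decide) (hpp.odd_of_ne_two (by omega))
  refine Pw.of (fun g => (key g).1) fun p hpp h5 hpd g => (key g).2 p hpp h5 ?_
  rw [Classes.card_HN] at hpd
  exact hpd

end Cfsg.Agent.H981.Pw.HN
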