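import Cfsg.Agent.H6.ORE.Extra

/-!
# Products of two conjugates over an extraspecial normal subgroup (helper981)

`Q ⊴ H` extraspecial (`H6.ORE.ES`), `a`, `b` without fixed points on `V = Q/⟨z⟩`, `g ∈ Q a b` not centralising `Q`: then
`g = (x a x⁻¹) (y b y⁻¹)` with `x, y ∈ Q` (`exists_prod`, `prod_lift`). Elementary proof: the sign of the product is a quadratic
function of the pair `(x, y)` with `(1 + α) x = α (1 + β) y`; if it is constant, `x = y` on `V`, and `a b` centralises `Q`.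
-/

set_option autoImplicit false

namespace Cfsg.Agent.H981.Pw.ESProd

open Cfsg.Agent.H6.ORE

universe u

variable {H : Type u} [Group H] {Q : Subgroup H} {z : H}

/-- no fixed point on `Q/⟨z⟩` -/
def Fpf (Q : Subgroup H) (z a : H) : Prop :=
  ∀ x ∈ Q, (a * x * a⁻¹ = x ∨ a * x * a⁻¹ = x * z) → x = 1 ∨ x = z

theorem surj (h : ES Q z) [Finite Q] {a : H} (hf : Fpf Q z a) {w : H} (hw : w ∈ Q) :
    ∃ x ∈ Q, ∃ ζ : H, (ζ = 1 ∨ ζ = z) ∧ x * (a * x * a⁻¹)⁻¹ = w * ζ := by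
  obtain ⟨u, -, v, hv, ζ, hζ, e⟩ := FPz.of_left h 1 hf w hw
  refine ⟨v, hv, ζ, hζ, ?_⟩
  have h2 : ζ * ζ = 1 := by
    rcases hζ with rfl | rfl
    · simp
    · exact h.sq
  have e1 : w = v * (a * v * a⁻¹)⁻¹ * ζ := by
    rw [e]; group
  rw [e1, mul_assoc _ ζ ζ, h2, mul_one]

/-- conjugation by an element of `Q` -/
theorem Fpf.conj (h : ES Q z) {a x0 : H} (hf : Fpf Q z a) (hx0 : x0 ∈ Q) : Fpf Q z (x0 * a * x0⁻¹) := by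
  intro v hv hav
  have h1 : x0⁻¹ * v * x0 = 1 ∨ x0⁻¹ * v * x0 = z := by
    apply hf _ (Q.mul_mem (Q.mul_mem (Q.inv_mem hx0) hv) hx0)
    rcases hav with e | e
    · left
      calc a * (x0⁻¹ * v * x0) * a⁻¹ = x0⁻¹ * (x0 * a * x0⁻¹ * v * (x0 * a * x0⁻¹)⁻¹) * x0 := by group
        _ = _ := by rw [e]
    · right
      calc a * (x0⁻¹ * v * x0) * a⁻¹ = x0⁻¹ * (x0 * a * x0⁻¹ * v * (x0 * a * x0⁻¹)⁻¹) * x0 := by group
        _ = x0⁻¹ * v * (z * x0) := by rw [e]; group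
        _ = _ := by rw [← h.central x0]; group
  have e2 : v = x0 * (x0⁻¹ * v * x0) * x0⁻¹ := by group
  rcases h1 with h1 | h1
  · left; rw [e2, h1]; group
  · right; rw [e2, h1, h.central x0]; group

/-- **products of conjugates in a coset of an extraspecial group** -/
theorem exists_prod (h : ES Q z) [Finite Q] {a b g : H} (ha : Fpf Q z a) (hb : Fpf Q z b) (hg : g * (a * b)⁻¹ ∈ Q)
    (hact : ∃ x ∈ Q, g * x ≠ x * g) : ∃ x ∈ Q, ∃ y ∈ Q, g = (x * a * x⁻¹) * (y * b * y⁻¹) := by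
  classical
  have hn := h.normal
  obtain ⟨x0, hx0, ζ0, hζ0, e0⟩ := surj h ha hg
  have e1 : (x0 * a * x0⁻¹) * b = g * ζ0 := by
    calc (x0 * a * x0⁻¹) * b = x0 * (a * x0 * a⁻¹)⁻¹ * (a * b) := by group
      _ = g * (a * b)⁻¹ * (ζ0 * (a * b)) := by rw [e0]; group
      _ = g * ζ0 := by rw [← h.zc hζ0]; group
  rcases hζ0 with rfl | rfl
  · exact ⟨x0, hx0, 1, Q.one_mem, by rw [mul_one] at e1; rw [← e1]; group⟩
  by_contra hno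
  push Not at hno
  obtain ⟨a1, ha1⟩ : ∃ a1, a1 = x0 * a * x0⁻¹ := ⟨_, rfl⟩
  have hf1 : Fpf Q ζ0 a1 := by rw [ha1]; exact ha.conj h hx0
  have hno1 : ∀ x ∈ Q, ∀ y ∈ Q, (x * a1 * x⁻¹) * (y * b * y⁻¹) ≠ g := by
    intro x hx y hy e
    refine hno (x * x0) (Q.mul_mem hx hx0) y hy ?_
    rw [← e, ha1]; group
  obtain ⟨p, hp⟩ : ∃ p, p = a1 * b := ⟨_, rfl⟩
  have hpg : p = g * ζ0 := by rw [hp, ha1]; exact e1
  have hΦ : ∀ x y : H, (x * a1 * x⁻¹) * (y * b * y⁻¹) =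
      x * (a1 * x * a1⁻¹)⁻¹ * ((a1 * y * a1⁻¹) * (p * y * p⁻¹)⁻¹) * p := by
    intro x y
    rw [hp]; group
  have h1 : ∀ x ∈ Q, ∀ y ∈ Q, ∀ ζ : H, (ζ = 1 ∨ ζ = ζ0) →
      x * (a1 * x * a1⁻¹)⁻¹ * ((a1 * y * a1⁻¹) * (p * y * p⁻¹)⁻¹) = ζ → ζ = 1 := by
    intro x hx y hy ζ hζ e
    rcases hζ with rfl | rfl
    · rfl
    · exfalso
      apply hno1 x hx y hy
      rw [hΦ, e, hpg, ← mul_assoc, ← h.central g, mul_assoc, h.sq, mul_one]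
  have hcx : ∀ y ∈ Q, p * y * p⁻¹ = y := by
    intro y hy
    have hay : a1 * y * a1⁻¹ ∈ Q := h.conj_mem hy a1
    have hpy : p * y * p⁻¹ ∈ Q := h.conj_mem hy p
    obtain ⟨x, hx, ζ, hζ, ex⟩ := surj h hf1 (Q.inv_mem (Q.mul_mem hay (Q.inv_mem hpy)))
    have exy : x * (a1 * x * a1⁻¹)⁻¹ * ((a1 * y * a1⁻¹) * (p * y * p⁻¹)⁻¹) = ζ := by
      rw [ex, mul_assoc, ← h.zc hζ]; group
    have hζ1 : ζ = 1 := h1 x hx y hy ζ hζ exy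
    rw [hζ1] at exy
    -- `m = a (x⁻¹ y) a⁻¹` is central in `Q`
    have hm : a1 * (x⁻¹ * y) * a1⁻¹ ∈ Q := h.conj_mem (Q.mul_mem (Q.inv_mem hx) hy) a1
    have hmc : ∀ w ∈ Q, (a1 * (x⁻¹ * y) * a1⁻¹) * w = w * (a1 * (x⁻¹ * y) * a1⁻¹) := by
      intro w hw
      obtain ⟨y', hy', ζ1, hζ1, ey⟩ := surj h hb (w := a1⁻¹ * w⁻¹ * a1) (by
        have := h.conj_mem (Q.inv_mem hw) a1⁻¹
        rwa [inv_inv] at this)
      obtain ⟨x', hx', ζ2, hζ2, ex'⟩ := surj h hf1 hw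
      have ey' : (a1 * y' * a1⁻¹) * (p * y' * p⁻¹)⁻¹ = w⁻¹ * ζ1 := by
        calc (a1 * y' * a1⁻¹) * (p * y' * p⁻¹)⁻¹ = a1 * (y' * (b * y' * b⁻¹)⁻¹) * a1⁻¹ := by rw [hp]; group
          _ = w⁻¹ * (a1 * ζ1 * a1⁻¹) := by rw [ey]; group
          _ = w⁻¹ * ζ1 := by rw [h.zc hζ1 a1]; group
      have e12 : ζ2 * ζ1 = 1 := by
        apply h1 x' hx' y' hy' _ (h.zz hζ2 hζ1)
        rw [ex', ey']
        calc w * ζ2 * (w⁻¹ * ζ1) = w * (ζ2 * w⁻¹) * ζ1 := by group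
          _ = w * (w⁻¹ * ζ2) * ζ1 := by rw [h.zc hζ2]
          _ = ζ2 * ζ1 := by group
      obtain ⟨ζ3, hζ3, e3⟩ := h.conj_eq hw hm
      have e4 : (x * x') * (a1 * (x * x') * a1⁻¹)⁻¹ * ((a1 * (y * y') * a1⁻¹) * (p * (y * y') * p⁻¹)⁻¹) = ζ3 := by
        calc (x * x') * (a1 * (x * x') * a1⁻¹)⁻¹ * ((a1 * (y * y') * a1⁻¹) * (p * (y * y') * p⁻¹)⁻¹)
            = x * (x' * (a1 * x' * a1⁻¹)⁻¹) * (a1 * (x⁻¹ * y) * a1⁻¹) * ((a1 * y' * a1⁻¹) * (p * y' * p⁻¹)⁻¹) *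
              (p * y * p⁻¹)⁻¹ := by group
          _ = x * (w * ζ2) * (a1 * (x⁻¹ * y) * a1⁻¹) * (w⁻¹ * ζ1) * (p * y * p⁻¹)⁻¹ := by rw [ex', ey']
          _ = x * w * (ζ2 * ((a1 * (x⁻¹ * y) * a1⁻¹) * w⁻¹)) * ζ1 * (p * y * p⁻¹)⁻¹ := by group
          _ = x * w * (((a1 * (x⁻¹ * y) * a1⁻¹) * w⁻¹) * ζ2) * ζ1 * (p * y * p⁻¹)⁻¹ := by rw [h.zc hζ2]
          _ = x * (w * (a1 * (x⁻¹ * y) * a1⁻¹) * w⁻¹) * (ζ2 * ζ1) * (p * y * p⁻¹)⁻¹ := by group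
          _ = x * (a1 * (x⁻¹ * y) * a1⁻¹) * (ζ3 * (p * y * p⁻¹)⁻¹) := by rw [e3, e12]; group
          _ = x * (a1 * (x⁻¹ * y) * a1⁻¹) * ((p * y * p⁻¹)⁻¹ * ζ3) := by rw [h.zc hζ3]
          _ = x * (a1 * x * a1⁻¹)⁻¹ * ((a1 * y * a1⁻¹) * (p * y * p⁻¹)⁻¹) * ζ3 := by group
          _ = ζ3 := by rw [exy, one_mul]
      have hζ31 : ζ3 = 1 := h1 (x * x') (Q.mul_mem hx hx') (y * y') (Q.mul_mem hy hy') ζ3 hζ3 e4
      rw [hζ31, mul_one] at e3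
      calc (a1 * (x⁻¹ * y) * a1⁻¹) * w = w * (a1 * (x⁻¹ * y) * a1⁻¹) * w⁻¹ * w := by rw [e3]
        _ = _ := by group
    have hm1 := h.nd _ hm hmc
    have hxy : ∃ ζ : H, (ζ = 1 ∨ ζ = ζ0) ∧ y = x * ζ := by
      rcases hm1 with e | e
      · refine ⟨1, Or.inl rfl, ?_⟩
        have : x⁻¹ * y = a1⁻¹ * (a1 * (x⁻¹ * y) * a1⁻¹) * a1 := by group
        rw [e] at this
        calc y = x * (x⁻¹ * y) := by group
          _ = x * 1 := by rw [this]; group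
      · refine ⟨ζ0, Or.inr rfl, ?_⟩
        have : x⁻¹ * y = a1⁻¹ * (a1 * (x⁻¹ * y) * a1⁻¹) * a1 := by group
        rw [e, mul_assoc, ← h.central a1, inv_mul_cancel_left] at this
        calc y = x * (x⁻¹ * y) := by group
          _ = x * ζ0 := by rw [this]
    obtain ⟨ζ', hζ', exy'⟩ := hxy
    have e5 : (a1 * x * a1⁻¹)⁻¹ * (a1 * y * a1⁻¹) = ζ' := by
      rw [exy']
      calc (a1 * x * a1⁻¹)⁻¹ * (a1 * (x * ζ') * a1⁻¹) = a1 * ζ' * a1⁻¹ := by group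
        _ = ζ' := by rw [h.zc hζ' a1]; group
    have e6 : x * ζ' * (p * y * p⁻¹)⁻¹ = 1 := by
      rw [← exy, ← e5]; group
    rw [← exy'] at e6
    exact (mul_inv_eq_one.1 e6).symm
  obtain ⟨x, hx, hne⟩ := hact
  apply hne
  have e7 := hcx x hx
  rw [hpg] at e7
  have e8 : g * x * g⁻¹ = x := by
    calc g * x * g⁻¹ = g * (x * ζ0) * ζ0⁻¹ * g⁻¹ := by group
      _ = g * (ζ0 * x) * ζ0⁻¹ * g⁻¹ := by rw [h.central x]
      _ = g * ζ0 * x * (g * ζ0)⁻¹ := by group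
      _ = x := e7
  exact mul_inv_eq_iff_eq_mul.1 e8

/-- along a surjection -/
theorem prod_lift {K : Type*} [Group K] (π : H →* K) (h : ES π.ker z) [Finite π.ker] {a b g : H}
    (ha : Fpf π.ker z a) (hb : Fpf π.ker z b) (hg : π g = π a * π b) (hact : ∃ x ∈ π.ker, g * x ≠ x * g) :
    ∃ x y : H, g = (x * a * x⁻¹) * (y * b * y⁻¹) := by
  have h1 : g * (a * b)⁻¹ ∈ π.ker := by
    rw [MonoidHom.mem_ker, map_mul, map_inv, hg, map_mul, mul_inv_cancel]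
  obtain ⟨x, -, y, -, e⟩ := exists_prod h ha hb h1 hact
  exact ⟨x, y, e⟩

end Cfsg.Agent.H981.Pw.ESProd
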