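import Cfsg.Agent.H78.Pw.Base
import Cfsg.Agent.H65.Ore.Prd
import Cfsg.Agent.H497.Stein.Eng

/-!
# Products of two elements of order prime to `n`: general lemmas (helper981, for S2465)

* `pr_of_real_odd` : a real element of odd order is a product of two 2-elements (one class);
* `pr_of_moved` : an element of prime order `p` conjugate to another power of itself is a product of two `p'`-elements;
* `pr_of_quot` : along a surjection with kernel of order prime to `n`;
* `pr_of_prd` : from the counting lemma.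
-/

set_option autoImplicit false

namespace Cfsg.Agent.H981.Pw.Gen

open Cfsg.Agent.H78.Pw

universe u v

variable {G : Type u} [Group G] {H : Type v} [Group H]

theorem coprime_conj {n : ℕ} {x : G} (h : (orderOf x).Coprime n) (c : G) : (orderOf (c * x * c⁻¹)).Coprime n := by
  have : orderOf (c * x * c⁻¹) = orderOf x := (MulAut.conj c).orderOf_eq x
  rw [this]; exact h

/-- **counting lemma** -/
theorem pr_of_prd {n : ℕ} {x y g : G} (h : H65.Ore.Prd x y g) (hx : (orderOf x).Coprime n)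
    (hy : (orderOf y).Coprime n) : Pr n g := by
  obtain ⟨a, b, e⟩ := h
  exact ⟨_, _, e, coprime_conj hx a, coprime_conj hy b⟩

/-- `g ^ (1 - j)` for `b g b⁻¹ = g ^ j` -/
theorem pr_of_move {n : ℕ} {g b : G} {j : ℤ} (hb : b * g * b⁻¹ = g ^ j) (hn : (orderOf b).Coprime n) {s : ℤ}
    (hs : g ^ ((1 - j) * s) = g) : Pr n g := by
  refine ⟨g ^ s * b * (g ^ s)⁻¹, b⁻¹, ?_, coprime_conj hn _, by rwa [orderOf_inv]⟩
  have h1 : b * g ^ s * b⁻¹ = g ^ (j * s) := by
    rw [← conj_zpow, hb, zpow_mul]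
  calc g = g ^ ((1 - j) * s) := hs.symm
    _ = g ^ s * (g ^ (j * s))⁻¹ := by rw [← zpow_neg, ← zpow_add]; congr 1; ring
    _ = g ^ s * (b * g ^ s * b⁻¹)⁻¹ := by rw [h1]
    _ = _ := by group

/-- a power of `b` inverting `g`, of order a power of two -/
theorem exists_two_inv [Finite G] {g b : G} (hb : b * g * b⁻¹ = g⁻¹) :
    ∃ c : G, c * g * c⁻¹ = g⁻¹ ∧ ∃ k : ℕ, orderOf c = 2 ^ k := by
  obtain ⟨k, m, hm, e⟩ := Nat.exists_eq_two_pow_mul_odd (orderOf_pos b).ne'
  refine ⟨b ^ m, ?_, k, ?_⟩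
  · have h2 : ∀ i : ℕ, b ^ i * g * (b ^ i)⁻¹ = g ^ ((-1 : ℤ) ^ i) := by
      intro i
      induction i with
      | zero => simp
      | succ i ih =>
        calc b ^ (i + 1) * g * (b ^ (i + 1))⁻¹ = b * (b ^ i * g * (b ^ i)⁻¹) * b⁻¹ := by
              rw [pow_succ']; group
          _ = (b * g * b⁻¹) ^ ((-1 : ℤ) ^ i) := by rw [ih, conj_zpow]
          _ = _ := by rw [hb, inv_zpow', pow_succ, mul_neg_one]
    rw [h2, hm.neg_one_pow, zpow_neg_one]
  · rw [orderOf_pow' _ hm.pos.ne', e, Nat.gcd_eq_right (Dvd.intro_left _ rfl),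
      Nat.mul_div_cancel _ hm.pos]

/-- **real elements of odd order** -/
theorem pr_of_real_odd [Finite G] {g b : G} (hb : b * g * b⁻¹ = g⁻¹) (ho : Odd (orderOf g)) {n : ℕ} (hn : Odd n) :
    Pr n g := by
  obtain ⟨c, hc, k, hk⟩ := exists_two_inv hb
  obtain ⟨t, ht⟩ := ho
  refine pr_of_move (j := -1) (b := c) (by rw [hc, zpow_neg_one]) ?_ (s := t + 1) ?_
  · rw [hk]
    exact Nat.Coprime.pow_left k (Nat.coprime_two_left.2 hn)
  · have h1 : (1 - (-1 : ℤ)) * ((t : ℤ) + 1) = ((2 * t + 1 : ℕ) : ℤ) + 1 := by push_cast; ring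
    rw [h1, zpow_add, zpow_one, zpow_natCast, ← ht, pow_orderOf_eq_one, one_mul]

/-- **elements of prime order conjugate to a different power** -/
theorem pr_of_moved [Finite G] {p : ℕ} (hp : p.Prime) {g : G} (hg : orderOf g = p) (h : H497.Stein.MovedAt g) :
    Pr p g := by
  obtain ⟨b, j, h1, h2⟩ := h
  have hpf : Fact p.Prime := ⟨hp⟩
  obtain ⟨k, r, hr, e⟩ := Nat.exists_eq_pow_mul_and_not_dvd (orderOf_pos b).ne' p hp.one_lt.ne'
  have hgp : g ^ p = 1 := by rw [← hg, pow_orderOf_eq_one]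
  -- conjugation by powers
  have hpow : ∀ i : ℕ, b ^ i * g * (b ^ i)⁻¹ = g ^ (j ^ i) := by
    intro i
    induction i with
    | zero => simp
    | succ i ih =>
      calc b ^ (i + 1) * g * (b ^ (i + 1))⁻¹ = b * (b ^ i * g * (b ^ i)⁻¹) * b⁻¹ := by rw [pow_succ']; group
        _ = (b * g * b⁻¹) ^ (j ^ i) := by rw [ih, conj_pow]
        _ = _ := by rw [h1, ← pow_mul, pow_succ']
  have hmod : ∀ m n : ℕ, m ≡ n [MOD p] → g ^ m = g ^ n := by
    intro m n hmn
    rw [pow_eq_pow_iff_modEq, hg]; exact hmn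
  have hferm : ∀ i : ℕ, g ^ (j ^ p ^ i) = g ^ j := by
    intro i
    apply hmod
    rw [← ZMod.natCast_eq_natCast_iff, Nat.cast_pow]
    exact ZMod.pow_card_pow (j : ZMod p)
  have hc : (b ^ p ^ k) * g * (b ^ p ^ k)⁻¹ = g ^ j := by rw [hpow, hferm]
  have hco : (orderOf (b ^ p ^ k)).Coprime p := by
    rw [orderOf_pow' _ (pow_pos hp.pos k).ne', e, Nat.gcd_eq_right (Dvd.intro _ rfl),
      Nat.mul_div_cancel_left _ (pow_pos hp.pos k)]
    exact ((Nat.Prime.coprime_iff_not_dvd hp).2 hr).symm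
  -- invert `1 - j` modulo `p`
  have hj : IsCoprime (1 - (j : ℤ)) (p : ℤ) := by
    have hpz : Prime (p : ℤ) := Nat.prime_iff_prime_int.1 hp
    refine ((hpz.coprime_iff_not_dvd).2 ?_).symm
    intro hd
    apply h2
    have h3 : (j : ℕ) ≡ 1 [MOD p] := by
      rw [← Int.natCast_modEq_iff]
      exact Int.modEq_iff_dvd.2 (by exact_mod_cast hd)
    rw [hmod _ _ h3, pow_one]
  obtain ⟨s, t, hst⟩ := hj
  refine pr_of_move (j := (j : ℤ)) (b := b ^ p ^ k) (by rw [hc, zpow_natCast]) hco (s := s) ?_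
  have h4 : (1 - (j : ℤ)) * s = 1 + (p : ℤ) * (-t) := by linarith
  rw [h4, zpow_add, zpow_one, zpow_mul, zpow_natCast, hgp, one_zpow, mul_one]

/-- **lifting** along a surjection with kernel of order prime to `n` -/
theorem pr_of_quot (f : G →* H) (hf : Function.Surjective f) {n : ℕ} (hk : (Nat.card f.ker).Coprime n) {g : G}
    (h : Pr n (f g)) : Pr n g := by
  obtain ⟨α, β, e, hα, hβ⟩ := h
  obtain ⟨a, rfl⟩ := hf α
  have key : ∀ x : G, (orderOf (f x)).Coprime n → (orderOf x).Coprime n := by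
    intro x hx
    have h1 : x ^ orderOf (f x) ∈ f.ker := by
      rw [MonoidHom.mem_ker, map_pow, pow_orderOf_eq_one]
    have h2 : x ^ (orderOf (f x) * Nat.card f.ker) = 1 := by
      rw [pow_mul]
      exact congrArg Subtype.val (pow_card_eq_one' (x := (⟨_, h1⟩ : f.ker)))
    exact Nat.Coprime.of_dvd_left (orderOf_dvd_of_pow_eq_one h2) (Nat.Coprime.mul_left hx hk)
  refine ⟨a, a⁻¹ * g, by group, key a hα, key _ ?_⟩
  have h3 : f (a⁻¹ * g) = β := by rw [map_mul, map_inv, e]; group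
  rw [h3]; exact hβ

end Cfsg.Agent.H981.Pw.Gen
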