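import Cfsg.Agent.H285.Ccp.HNRel
import Cfsg.Agent.H78.Pw.Base

/-!
# The 3-elements of the Harada-Norton group are products of two elements of order prime to 6: tools (helper981, S2465)

For representatives `r` of the classes of the Sylow 3-subgroup of `H285.HN3`: `r = c (c ^ 4 r)` with `c ^ 5 = 1` and
`(c ^ 4 r) ^ n = 1`, `n` prime to 6; everything is checked in the 133-dimensional representation (files `HNMatA` ...).
-/

set_option autoImplicit false
set_option maxRecDepth 100000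

namespace Cfsg.Agent.H981.Pw.HN3

open Cfsg.Agent.Lib.PackMat Cfsg.Agent.Lib.PackMatGroup Cfsg.Agent.Lib.PackMatMul Cfsg.Agent.HN.RepData
open Cfsg.Agent.HN.Rep (L LG gens rho)
open Cfsg.Agent.HN Cfsg.Agent.H285.HN3 Cfsg.Agent.H839.Rad.Ext
open Cfsg.Agent.H78.Pw (Pr)

/-- the results of a program in the presented group -/
noncomputable def TT (pg : List (ℕ × List ℕ)) (i : ℕ) : Cfsg.Spor.HN := (runG pg gens').getD i 1

theorem rho_TT (pg : List (ℕ × List ℕ)) (i : ℕ) : rho (TT pg i) = (runG pg LG').getD i 1 := by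
  unfold TT
  rw [← gens'_map, runG_map, List.getD_eq_getElem?_getD, List.getD_eq_getElem?_getD, List.getElem?_map]
  cases (runG pg gens')[i]? with
  | none => simp
  | some b => simp

theorem eqTT {pg : List (ℕ × List ℕ)} {es : List (ℕ × ℕ)}
    (chk : checkS C pg es [] Cfsg.Agent.HN.A12Step.L20 = true)
    (hr : ∀ q ∈ es ++ [], q.1 < pg.length + Cfsg.Agent.HN.A12Step.L20.length ∧
      q.2 < pg.length + Cfsg.Agent.HN.A12Step.L20.length)
    {i j : ℕ} (h : (i, j) ∈ es) : TT pg i = TT pg j := by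
  have := Cfsg.Agent.S1701.result.1
  apply A12Group.rho_injective
  rw [rho_TT, rho_TT]
  exact (checkS_sound (good_of_check Rep.good) A12.results chk hr).1 (i, j) h

theorem stepTT {pg : List (ℕ × List ℕ)} {i : ℕ} {w : List ℕ} (hi : i < pg.length)
    (hw : ((pg.reverse.getD i (0, [])).1 :: (pg.reverse.getD i (0, [])).2) = w) :
    TT pg i = evF (fun m => TT pg (i + 1 + m)) w := by
  rw [← hw]
  exact runG_step pg gens' i hi

/-- the letters -/
theorem letTT (pg : List (ℕ × List ℕ)) (m : ℕ) : TT pg (pg.length + m) = R (85 + m) := by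
  have h1 := runG_getD pg gens' m
  have h2 := runG_getD prog gens' m
  exact h1.trans h2.symm

variable {G : Type*} [Group G]

theorem pow5 {x x2 x4 z : G} (h2 : x2 = x * (x * 1)) (h4 : x4 = x2 * (x2 * 1)) (hz : z = x4 * (x * 1)) (h : z = 1) :
    x ^ 5 = 1 := by
  rw [← h, hz, h4, h2]; simp only [pow_succ, pow_zero, one_mul, mul_one, mul_assoc]

theorem pow7 {x x2 x4 z : G} (h2 : x2 = x * (x * 1)) (h4 : x4 = x2 * (x2 * 1)) (hz : z = x4 * (x2 * (x * 1)))
    (h : z = 1) : x ^ 7 = 1 := by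
  rw [← h, hz, h4, h2]; simp only [pow_succ, pow_zero, one_mul, mul_one, mul_assoc]

theorem pow11 {x x2 x4 x8 z : G} (h2 : x2 = x * (x * 1)) (h4 : x4 = x2 * (x2 * 1)) (h8 : x8 = x4 * (x4 * 1))
    (hz : z = x8 * (x2 * (x * 1))) (h : z = 1) : x ^ 11 = 1 := by
  rw [← h, hz, h8, h4, h2]; simp only [pow_succ, pow_zero, one_mul, mul_one, mul_assoc]

theorem pow19 {x x2 x4 x8 x16 z : G} (h2 : x2 = x * (x * 1)) (h4 : x4 = x2 * (x2 * 1)) (h8 : x8 = x4 * (x4 * 1))
    (h16 : x16 = x8 * (x8 * 1)) (hz : z = x16 * (x2 * (x * 1))) (h : z = 1) : x ^ 19 = 1 := by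
  rw [← h, hz, h16, h8, h4, h2]; simp only [pow_succ, pow_zero, one_mul, mul_one, mul_assoc]

theorem pow25 {x x2 x4 x5 y2 y4 z : G} (h2 : x2 = x * (x * 1)) (h4 : x4 = x2 * (x2 * 1)) (h5 : x5 = x4 * (x * 1))
    (k2 : y2 = x5 * (x5 * 1)) (k4 : y4 = y2 * (y2 * 1)) (hz : z = y4 * (x5 * 1)) (h : z = 1) : x ^ 25 = 1 := by
  rw [← h, hz, k4, k2, h5, h4, h2]; simp only [pow_succ, pow_zero, one_mul, mul_one, mul_assoc]

theorem pow35 {x x2 x4 x5 y2 y4 z : G} (h2 : x2 = x * (x * 1)) (h4 : x4 = x2 * (x2 * 1)) (h5 : x5 = x4 * (x * 1))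
    (k2 : y2 = x5 * (x5 * 1)) (k4 : y4 = y2 * (y2 * 1)) (hz : z = y4 * (y2 * (x5 * 1))) (h : z = 1) : x ^ 35 = 1 := by
  have e1 : x5 = x ^ 5 := by rw [h5, h4, h2]; simp only [pow_succ, pow_zero, one_mul, mul_one, mul_assoc]
  rw [← h, hz, k4, k2, e1]; simp only [pow_succ, pow_zero, one_mul, mul_one, mul_assoc]

/-- the certificate -/
theorem cert {c cs cq cf x r : G} {n : ℕ} (h2 : cs = c * (c * 1)) (h4 : cq = cs * (cs * 1)) (h5 : cf = cq * (c * 1))
    (hc : cf = 1) (hx : x = cq * r) (hn : x ^ n = 1) (hco : n.Coprime 6) : Pr 6 r := by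
  have hc5 : c ^ 5 = 1 := pow5 h2 h4 h5 hc
  refine ⟨c, x, ?_, ?_, ?_⟩
  · have e1 : c * cq = 1 := by
      rw [← hc5, h4, h2]
      simp only [pow_succ, pow_zero, one_mul, mul_one, mul_assoc]
    rw [hx, ← mul_assoc, e1, one_mul]
  · exact Nat.Coprime.of_dvd_left (orderOf_dvd_of_pow_eq_one hc5) (by norm_num)
  · exact Nat.Coprime.of_dvd_left (orderOf_dvd_of_pow_eq_one hn) hco

end Cfsg.Agent.H981.Pw.HN3
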