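import Cfsg.Agent.H981.Ore.HNMM
import Cfsg.Agent.H981.Pw.ESProd
import Cfsg.Agent.H981.Pw.Gen

/-!
# Products of two elements of order 5 in the centralizer of a 2-central involution of HN (helper981, S2465)

`pr_MM` : every element `≠ 1, W0` of `MM = 2 ^ (1 + 8) (A5 × A5)` is a product of two elements of order dividing 5.
-/

set_option autoImplicit false

namespace Cfsg.Agent.H981.Pw.HNMM

open Equiv
open Cfsg.Agent.HN Cfsg.Agent.HN.Pres Cfsg.Agent.HN.P1408 Cfsg.Agent.HN.H0Basic Cfsg.Agent.HN.XMat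
open Cfsg.Agent.HN.XStruct Cfsg.Agent.HN.XWords Cfsg.Agent.HN.XQuot Cfsg.Agent.HN.XInst
open Cfsg.Agent
open Cfsg.Agent.KFacts.HN
open Cfsg.Agent.CpAutHN.LqFacts Cfsg.Agent.CpAutHN.PPFacts
open Cfsg.Agent.Lib.AltCarmichael (cyc cyc_mem)
open Cfsg.Agent.H981.Ore.HNA5 (sw2)
open Cfsg.Agent.H981.Ore.HNMM
open Cfsg.Agent.H981.Pw.ESProd
open Cfsg.Agent.H6.ORE (ES)
open Cfsg.Agent.SporadicA.PermTab (allB allB_iff)

/-! ### `A5` -/

def sp : Perm (Fin 5) := cyc 3 0 * cyc 3 1 * cyc 3 2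

def P5 : List (ℕ × ℕ) := [
  (0, 0), (0, 27), (0, 28), (0, 29), (0, 32), (0, 33), (0, 34), (0, 38), (0, 39), (0, 44), (0, 59), (0, 63), (27, 0),
  (27, 27), (27, 28), (27, 29), (27, 32), (27, 33), (27, 34), (27, 38), (27, 39), (27, 44), (27, 59), (28, 27),
  (28, 28), (28, 29), (28, 32), (28, 39), (28, 44), (29, 27), (29, 28), (29, 29), (29, 33), (29, 38), (29, 59),
  (29, 63), (32, 28), (32, 29), (32, 32), (32, 44), (32, 63), (33, 28), (33, 29), (33, 33), (33, 59), (34, 0),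
  (34, 33), (34, 34), (34, 38), (38, 34), (38, 38), (39, 0), (39, 39), (44, 27), (44, 44), (59, 59), (59, 63),
  (63, 59), (63, 63)]

theorem ck5 : ∀ p ∈ P5, Perm.sign (sw2 p.1) = 1 ∧ Perm.sign (sw2 p.2) = 1 := by decide +kernel

theorem al5 : ∀ y : Perm (Fin 5), Perm.sign y = 1 → y ≠ 1 →
    ∃ p ∈ P5, sw2 p.1 * sp * (sw2 p.1)⁻¹ * (sw2 p.2 * (sp * sp) * (sw2 p.2)⁻¹) = y := by decide +kernel

/-- a 5-cycle -/
def s5 : A5 := ⟨cyc 3 0, cyc_mem 3 0 (by norm_num)⟩ * ⟨cyc 3 1, cyc_mem 3 1 (by norm_num)⟩ *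
  ⟨cyc 3 2, cyc_mem 3 2 (by norm_num)⟩

theorem s5_coe : (s5 : Perm (Fin 5)) = sp := rfl

theorem s5_pow : s5 ^ 5 = 1 := by
  apply Subtype.ext
  change sp ^ 5 = 1
  decide +kernel

theorem exists_five {y : A5} (hy : y ≠ 1) : ∃ g h : A5, g * s5 * g⁻¹ * (h * (s5 * s5) * h⁻¹) = y := by
  obtain ⟨p, hp, h⟩ := al5 y (Perm.mem_alternatingGroup.1 y.2) (fun h => hy (Subtype.ext h))
  obtain ⟨h1, h2⟩ := ck5 p hp
  exact ⟨⟨sw2 p.1, Perm.mem_alternatingGroup.2 h1⟩, ⟨sw2 p.2, Perm.mem_alternatingGroup.2 h2⟩, Subtype.ext h⟩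

theorem φA_s5 : φA s5 = e (aw 0 ++ aw 1 ++ aw 2) := by
  unfold s5
  rw [map_mul, map_mul, φA_cyc (by norm_num), φA_cyc (by norm_num), φA_cyc (by norm_num), e_append, e_append]

theorem φB_s5 : φB s5 = e (bw 0 ++ bw 1 ++ bw 2) := by
  unfold s5
  rw [map_mul, map_mul, φB_cyc (by norm_num), φB_cyc (by norm_num), φB_cyc (by norm_num), e_append, e_append]

/-! ### fixed points -/

/-- the test -/
def tst (w : List ℕ) : Bool := allB (fun m => Nat.beq m 0 || Nat.beq (app (mw w) m) m == false) 256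

theorem of_tst {w : List ℕ} (h : tst w = true) {m : ℕ} (hm : m < 256) (h1 : app (mw w) m = m) : m = 0 := by
  have h2 := (allB_iff _ _).1 h m hm
  rw [Bool.or_eq_true] at h2
  rcases h2 with h2 | h2
  · exact Nat.eq_of_beq_eq_true h2
  · rw [h1, Nat.beq_refl] at h2
    exact absurd h2 (by decide)

theorem fpf_of_word {a : PP} {w : List ℕ} (hw : ρ a = e w) (ht : tst w = true) : Fpf ρ.ker zP a := by
  intro v hv h
  obtain ⟨m, hm, c, hmc⟩ := mem_ker_val hv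
  have h6 := of_tst ht hm (app_eq_of hw hm hmc h)
  rw [h6, show r Q 0 = 1 from Bas.r_zero, one_mul] at hmc
  rcases sgn0_cases c with h | h
  · exact Or.inl (Subtype.ext (hmc.trans h))
  · exact Or.inr (Subtype.ext (hmc.trans h))

theorem fpf_of_conj {a u : PP} (h : Fpf ρ.ker zP (u * a * u⁻¹)) : Fpf ρ.ker zP a := by
  intro v hv hav
  have hu : u * v * u⁻¹ ∈ ρ.ker := ρ.normal_ker.conj_mem v hv u
  have h1 := h _ hu (by
    rcases hav with e1 | e1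
    · left
      calc u * a * u⁻¹ * (u * v * u⁻¹) * (u * a * u⁻¹)⁻¹ = u * (a * v * a⁻¹) * u⁻¹ := by group
        _ = _ := by rw [e1]
    · right
      calc u * a * u⁻¹ * (u * v * u⁻¹) * (u * a * u⁻¹)⁻¹ = u * (a * v * a⁻¹) * u⁻¹ := by group
        _ = u * v * (zP * u⁻¹) := by rw [e1]; group
        _ = u * v * (u⁻¹ * zP) := by rw [zP_comm]
        _ = _ := by group)
  have e2 : v = u⁻¹ * (u * v * u⁻¹) * u := by group
  rw [e2]
  rcases h1 with h | h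
  · left; rw [h]; group
  · right; rw [h, mul_assoc, ← zP_comm u, ← mul_assoc, inv_mul_cancel, one_mul]

theorem fpf_inv {a : PP} (h : Fpf ρ.ker zP a) : Fpf ρ.ker zP a⁻¹ := by
  intro v hv hav
  apply h v hv
  rw [inv_inv] at hav
  rcases hav with e1 | e1
  · left
    calc a * v * a⁻¹ = a * (a⁻¹ * v * a) * a⁻¹ := by rw [e1]
      _ = v := by group
  · right
    have e2 : v = a * (v * zP) * a⁻¹ := by rw [← e1]; group
    calc a * v * a⁻¹ = a * v * a⁻¹ * (zP * zP) := by rw [zP_sq, mul_one]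
      _ = a * v * (a⁻¹ * zP) * zP := by group
      _ = a * v * (zP * a⁻¹) * zP := by rw [zP_comm a⁻¹]
      _ = a * (v * zP) * a⁻¹ * zP := by group
      _ = v * zP := by rw [← e2]

theorem t11 : tst (aw 0 ++ aw 1 ++ aw 2 ++ (bw 0 ++ bw 1 ++ bw 2)) = true := by decide +kernel
theorem t22 : tst (aw 0 ++ aw 1 ++ aw 2 ++ (aw 0 ++ aw 1 ++ aw 2) ++ (bw 0 ++ bw 1 ++ bw 2 ++ (bw 0 ++ bw 1 ++ bw 2))) =
    true := by decide +kernel
theorem t10 : tst (aw 0 ++ aw 1 ++ aw 2) = true := by decide +kernel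
theorem t20 : tst (aw 0 ++ aw 1 ++ aw 2 ++ (aw 0 ++ aw 1 ++ aw 2)) = true := by decide +kernel
theorem t01 : tst (bw 0 ++ bw 1 ++ bw 2) = true := by decide +kernel
theorem t02 : tst (bw 0 ++ bw 1 ++ bw 2 ++ (bw 0 ++ bw 1 ++ bw 2)) = true := by decide +kernel

/-- conjugates of a good pair -/
theorem fpf_pair {x y g h : A5} {w : List ℕ} (hw : φA x * φB y = e w) (ht : tst w = true) {a : PP}
    (ha : ρ a = φA (g * x * g⁻¹) * φB (h * y * h⁻¹)) : Fpf ρ.ker zP a := by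
  obtain ⟨u, hu⟩ := ρ_surj (φA g⁻¹ * φB h⁻¹)
  apply fpf_of_conj (u := u)
  refine fpf_of_word (w := w) ?_ ht
  rw [map_mul, map_mul, map_inv, hu, ha, conj_AB, ← hw]
  congr 2 <;> group

/-! ### lifts -/

theorem lift_five {α : Lq} (hα : α ^ 5 = 1) : ∃ a : PP, ρ a = α ∧ a ^ 5 = 1 := by
  obtain ⟨a0, ha0⟩ := ρ_surj α
  refine ⟨a0 ^ 16, ?_, ?_⟩
  · rw [map_pow, ha0]
    calc α ^ 16 = (α ^ 5) ^ 3 * α := by rw [← pow_mul, ← pow_succ]
      _ = α := by rw [hα, one_pow, one_mul]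
  · have h1 : a0 ^ 5 ∈ ρ.ker := by rw [MonoidHom.mem_ker, map_pow, ha0, hα]
    have h2 : (a0 ^ 5) ^ 4 = 1 := by
      have h3 := es.pow _ h1
      have h4 : (a0 ^ 5) ^ 4 = (a0 ^ 5 * a0 ^ 5) * (a0 ^ 5 * a0 ^ 5) := by
        rw [show (4 : ℕ) = 2 * 2 from rfl, pow_mul, pow_two, pow_two]
      rw [h4]
      rcases h3 with h | h
      · rw [h, one_mul]
      · rw [h]; exact zP_sq
    calc (a0 ^ 16) ^ 5 = ((a0 ^ 5) ^ 4) ^ 4 := by rw [← pow_mul, ← pow_mul, ← pow_mul]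
      _ = 1 := by rw [h2, one_pow]

theorem pow_pair {x y : A5} (hx : x ^ 5 = 1) (hy : y ^ 5 = 1) : (φA x * φB y) ^ 5 = 1 := by
  rw [(show Commute (φA x) (φB y) from comm_AB x y).mul_pow, ← map_pow, ← map_pow, hx, hy, map_one, map_one, one_mul]

theorem conj_five {x : A5} (hx : x ^ 5 = 1) (g : A5) : (g * x * g⁻¹) ^ 5 = 1 := by
  rw [conj_pow, hx]; group

theorem ss_five : (s5 * s5) ^ 5 = 1 := by
  rw [(Commute.refl s5).mul_pow, s5_pow, one_mul]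

/-- the pairs -/
theorem exists_pair (y1 y2 : A5) : ∃ a b : PP, Fpf ρ.ker zP a ∧ Fpf ρ.ker zP b ∧ a ^ 5 = 1 ∧ b ^ 5 = 1 ∧
    φA y1 * φB y2 = ρ a * ρ b := by
  have hAB : ∀ s t : A5, φA s * φB t = φB t * φA s := comm_AB
  have hmul : ∀ a1 a2 b1 b2 : A5, φA (a1 * b1) * φB (a2 * b2) = φA a1 * φB a2 * (φA b1 * φB b2) := by
    intro a1 a2 b1 b2
    rw [map_mul, map_mul]
    calc φA a1 * φA b1 * (φB a2 * φB b2) = φA a1 * (φA b1 * φB a2) * φB b2 := by group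
      _ = φA a1 * (φB a2 * φA b1) * φB b2 := by rw [hAB]
      _ = _ := by group
  have key : ∀ (x y x' y' g h g' h' : A5) (w w' : List ℕ), φA x * φB y = e w → tst w = true → φA x' * φB y' = e w' →
      tst w' = true → x ^ 5 = 1 → y ^ 5 = 1 → x' ^ 5 = 1 → y' ^ 5 = 1 → g * x * g⁻¹ * (g' * x' * g'⁻¹) = y1 →
      h * y * h⁻¹ * (h' * y' * h'⁻¹) = y2 →
      ∃ a b : PP, Fpf ρ.ker zP a ∧ Fpf ρ.ker zP b ∧ a ^ 5 = 1 ∧ b ^ 5 = 1 ∧ φA y1 * φB y2 = ρ a * ρ b := by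
    intro x y x' y' g h g' h' w w' hw ht hw' ht' hx hy hx' hy' e1 e2
    obtain ⟨a, ha, ha5⟩ := lift_five (pow_pair (conj_five hx g) (conj_five hy h))
    obtain ⟨b, hb, hb5⟩ := lift_five (pow_pair (conj_five hx' g') (conj_five hy' h'))
    refine ⟨a, b, fpf_pair hw ht ha, fpf_pair hw' ht' hb, ha5, hb5, ?_⟩
    rw [ha, hb, ← hmul, e1, e2]
  have o5 : (1 : A5) ^ 5 = 1 := one_pow 5
  by_cases h1 : y1 = 1
  · by_cases h2 : y2 = 1
    · obtain ⟨a, ha, ha5⟩ := lift_five (pow_pair s5_pow o5)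
      have hf : Fpf ρ.ker zP a := by
        refine fpf_of_word ?_ t10
        rw [ha, map_one, mul_one, φA_s5]
      refine ⟨a, a⁻¹, hf, fpf_inv hf, ha5, by rw [inv_pow, ha5, inv_one], ?_⟩
      rw [h1, h2, map_one, map_one, map_inv, mul_inv_cancel, one_mul]
    · obtain ⟨g, h, hgh⟩ := exists_five h2
      refine key 1 s5 1 (s5 * s5) 1 g 1 h _ _ ?_ t01 ?_ t02 o5 s5_pow o5 ss_five ?_ hgh
      · rw [map_one, one_mul, φB_s5]
      · rw [map_one, one_mul, map_mul, φB_s5, ← e_append]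
      · rw [h1]; group
  · obtain ⟨g, h, hgh⟩ := exists_five h1
    by_cases h2 : y2 = 1
    · refine key s5 1 (s5 * s5) 1 g 1 h 1 _ _ ?_ t10 ?_ t20 s5_pow o5 ss_five o5 hgh ?_
      · rw [map_one, mul_one, φA_s5]
      · rw [map_one, mul_one, map_mul, φA_s5, ← e_append]
      · rw [h2]; group
    · obtain ⟨g', h', hgh'⟩ := exists_five h2
      refine key s5 s5 (s5 * s5) (s5 * s5) g g' h h' _ _ ?_ t11 ?_ t22 s5_pow s5_pow ss_five ss_five hgh hgh'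
      · rw [φA_s5, φB_s5, ← e_append]
      · rw [map_mul, map_mul, φA_s5, φB_s5, ← e_append, ← e_append, ← e_append]

/-- **products of two elements of order 5 in `MM`** -/
theorem pr_MM {g : Cfsg.Spor.HN} (hg : g ∈ MM) (h1 : g ≠ 1) (hW : g ≠ W0) :
    ∃ a b : Cfsg.Spor.HN, g = a * b ∧ a ^ 5 = 1 ∧ b ^ 5 = 1 := by
  obtain ⟨hgP, hL⟩ := mem_MM.1 hg
  obtain ⟨y1, y2, hy⟩ := mem_LL.1 hL
  obtain ⟨a, b, ha, hb, ha5, hb5, hab⟩ := exists_pair y1 y2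
  have hact : ∃ x ∈ ρ.ker, (⟨g, hgP⟩ : PP) * x ≠ x * ⟨g, hgP⟩ := by
    by_contra hno
    push Not at hno
    have h3 : ρ ⟨g, hgP⟩ = 1 := ρ_eq_one fun x hx => Or.inl (by rw [hno x hx]; group)
    rcases es.nd _ (MonoidHom.mem_ker.2 h3) hno with h | h
    · exact h1 (congrArg Subtype.val h)
    · exact hW (congrArg Subtype.val h)
  obtain ⟨x, y, e1⟩ := prod_lift ρ es ha hb (by rw [← hy, hab]) hact
  refine ⟨x * a * x⁻¹, y * b * y⁻¹, congrArg Subtype.val e1, ?_, ?_⟩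
  · have h5 : (x * a * x⁻¹) ^ 5 = 1 := by rw [conj_pow, ha5]; group
    exact congrArg Subtype.val h5
  · have h5 : (y * b * y⁻¹) ^ 5 = 1 := by rw [conj_pow, hb5]; group
    exact congrArg Subtype.val h5

end Cfsg.Agent.H981.Pw.HNMM
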